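import Cfsg.Agent.H43.Bal.Rep
import Cfsg.Agent.H44.SimInvol
import Mathlib

/-!
# Automorphisms commuting with an involutory similarity of sign `-1`
-/

set_option autoImplicit false

namespace H43

namespace Bal

open Matrix H44

variable {F : Type*} [Field F] [Finite F] {ι : Type} [Fintype ι] [DecidableEq ι]
  {Q : QuadraticForm F (ι → F)} {n : ℕ}

/-- the data of an involutory graph automorphism -/
structure GData (Q : QuadraticForm F (ι → F)) (n : ℕ) where
  h : EvenQ Q n
  four : 4 ≤ n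
  g : simG Q
  c : Fˣ
  hη : etaHom h g = -1
  hg : g * g = scalarHom Q c

namespace GData

variable (D : GData Q n)

/-- the automorphism -/
noncomputable def x : MulAut (Cfsg.POmega F ⇑Q) := simAut Q D.g

/-- the underlying linear map -/
noncomputable def L : (ι → F) →ₗ[F] (ι → F) := Matrix.toLin' (D.g.1 : Matrix ι ι F)

theorem L_apply (v : ι → F) : D.L v = (D.g.1 : Matrix ι ι F) *ᵥ v := Matrix.toLin'_apply _ v

theorem L_sq (v : ι → F) : D.L (D.L v) = (D.c : F) • v := by
  rw [D.L_apply, D.L_apply]; exact invol_mulVec D.hg v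

theorem mu : (muHom D.h D.g : F) = D.c := mu_eq_of_invol D.h D.hη D.hg

theorem x_sq : D.x * D.x = 1 := by
  rw [x, ← map_mul, D.hg, scalarHom_mem_ker]

theorem x_ne_one : D.x ≠ 1 := fun e => by
  obtain ⟨a, ha⟩ := (simAut_eq_one_iff D.h.nondeg D.h.five _).1 e
  have := D.hη
  rw [ha, etaHom_scalar] at this
  exact neg_one_ne_one_units D.h this.symm

theorem not_x_of_odd {y : MulAut (Cfsg.POmega F ⇑Q)} (hy : Odd (orderOf y)) : y ≠ D.x := fun e => by
  have h1 : orderOf y ∣ 2 := orderOf_dvd_of_pow_eq_one (by rw [e, pow_two, D.x_sq])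
  rcases (Nat.dvd_prime Nat.prime_two).1 h1 with h | h
  · exact D.x_ne_one (e ▸ orderOf_eq_one_iff.1 h)
  · rw [h] at hy; exact (by decide : ¬ Odd 2) hy

theorem adjoint (v w : ι → F) : polB Q (D.L v) w = polB Q v (D.L w) := by
  have := sim_polB D.h D.g v (D.L w)
  rw [← D.L_apply, ← D.L_apply, D.L_sq, map_smul, D.mu, smul_eq_mul] at this
  exact mul_left_cancel₀ D.c.ne_zero this

theorem qmap_L (v : ι → F) : Q (D.L v) = (D.c : F) * Q v := by
  rw [D.L_apply, muHom_spec D.h, D.mu]

/-- an automorphism commuting with the involution commutes with the linear map up to a scalar -/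
theorem exists_twist {y : MulAut (Cfsg.POmega F ⇑Q)} (hy : y * D.x = D.x * y) (S : Rep Q y) :
    ∃ l : F, l ≠ 0 ∧ ∀ v, S.map (D.L v) = l • D.L (S.map v) := by
  let S₁ : Rep Q (y * D.x) := S.comp (simRep D.h D.g)
  let S₂ : Rep Q (D.x * y) := (simRep D.h D.g).comp S
  let S₂' : Rep Q (y * D.x) :=
    ⟨S₂.map, S₂.field, S₂.inj, S₂.smul, S₂.mult, S₂.qmap, hy.symm ▸ S₂.conj⟩
  obtain ⟨l, hl⟩ := Rep.eq_scalar D.h.nondeg D.h.two D.h.five S₂' S₁
  obtain ⟨u, hu⟩ := D.h.exists_ne
  refine ⟨l, fun e => ?_, hl⟩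
  have h1 : S.map (D.L u) = 0 := (hl u).trans (by rw [e, zero_smul])
  refine S.qmap_ne (u := D.L u) ?_ (by rw [h1, map_zero])
  rw [D.qmap_L]
  exact mul_ne_zero D.c.ne_zero hu

/-- an odd element acting as a scalar or as a scalar multiple of the involution is trivial -/
theorem eq_one_of_odd {y : MulAut (Cfsg.POmega F ⇑Q)} (hodd : Odd (orderOf y)) (S : Rep Q y)
    (hS : (∃ a : F, ∀ v, S.map v = a • v) ∨ ∃ a : F, ∀ v, S.map v = a • D.L v) : y = 1 := by
  rcases hS with ⟨a, ha⟩ | ⟨a, ha⟩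
  · exact Rep.eq_one D.h.nondeg D.h.two D.h.five S ha
  · exfalso
    have h1 : D.x * y = 1 := Rep.eq_one D.h.nondeg D.h.two D.h.five ((simRep D.h D.g).comp S)
      (l := a * (D.c : F)) fun v => by
        show D.L (S.map v) = _
        rw [ha, map_smul, D.L_sq, smul_smul]
    refine D.not_x_of_odd hodd ?_
    calc y = D.x * D.x * y := by rw [D.x_sq, one_mul]
      _ = D.x := by rw [mul_assoc, h1, mul_one]

theorem oAut_comm {h : orthGroup Q} (hh : ∀ v, D.L (h.1 v) = h.1 (D.L v)) :
    oAut Q h * D.x = D.x * oAut Q h := by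
  rw [oAut_apply, x, ← map_mul, ← map_mul]
  congr 1
  refine simG_ext fun v => ?_
  simp only [Subgroup.coe_mul, Units.val_mul, ← mulVec_mulVec, orthSim_mulVec, ← D.L_apply, hh]

/-- commutation with the commutator part of the centraliser -/
theorem commute_oAut {y : MulAut (Cfsg.POmega F ⇑Q)}
    (hy : ∀ k, D.x k = k → y * MulAut.conj k = MulAut.conj k * y) {h : orthGroup Q}
    (hc : h ∈ commutator (orthGroup Q)) (hh : ∀ v, D.L (h.1 v) = h.1 (D.L v)) :
    y * oAut Q h * y⁻¹ = oAut Q h := by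
  obtain ⟨k, hk⟩ := oAut_comm_inner hc
  have hkx : D.x k = k := (conj_mem_centralizer (conj_inj D.h.nondeg D.h.five) k).1
    (Subgroup.mem_centralizer_singleton_iff.2 (by rw [← hk]; exact D.oAut_comm hh))
  rw [hk, hy k hkx, mul_inv_cancel_right]

end GData

/-- odd elements are squares in the subgroup they generate -/
theorem exists_root {G : Type*} [Group G] {y : G} (hy : Odd (orderOf y)) : ∃ k : ℕ, y = y ^ k * y ^ k := by
  obtain ⟨j, hj⟩ := hy
  refine ⟨j + 1, ?_⟩
  rw [← pow_add, show j + 1 + (j + 1) = orderOf y + 1 by omega, pow_succ, pow_orderOf_eq_one, one_mul]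

end Bal

end H43
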