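import Cfsg.Agent.H10.Basic
import Mathlib

/-!
# The `p'`-core of the centraliser of an automorphism with a simple subgroup among its fixed points
-/

set_option autoImplicit false

namespace H43

namespace Bal

variable {G : Type*} [Group G]

theorem aut_conj (α : MulAut G) (y : G) : α * MulAut.conj y * α⁻¹ = MulAut.conj (α y) := by
  ext x
  simp

theorem conj_mem_centralizer (hinj : Function.Injective (MulAut.conj : G → MulAut G)) {φ : MulAut G}
    (y : G) : MulAut.conj y ∈ Subgroup.centralizer ({φ} : Set (MulAut G)) ↔ φ y = y := by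
  rw [Subgroup.mem_centralizer_singleton_iff]
  constructor
  · intro h
    apply hinj
    rw [← aut_conj, ← h, mul_inv_cancel_right]
  · intro h
    conv_lhs => rw [← h, ← aut_conj, inv_mul_cancel_right]

/-- a nontrivial subgroup of order prime to `p` cannot be divisible by `p` -/
theorem eq_one_of_coprime {H : Type*} [Group H] {N : Subgroup H} {p : ℕ}
    (hN : (Nat.card N).Coprime p) {x : H} (hx : x ∈ N) (hxp : x ^ p = 1) : x = 1 := by
  have h2 : orderOf x ∣ Nat.card N := by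
    rw [← Nat.card_zpowers]
    exact Subgroup.card_dvd_of_le (Subgroup.zpowers_le.2 hx)
  exact orderOf_eq_one_iff.1 (Nat.eq_one_of_dvd_coprimes hN h2 (orderOf_dvd_of_pow_eq_one hxp))

theorem core_ne_bot_iff [Finite G] (hinj : Function.Injective (MulAut.conj : G → MulAut G))
    {p : ℕ} [Fact p.Prime] {φ : MulAut G} (A : Subgroup (MulAut G)) (hinn : ∀ k, MulAut.conj k ∈ A)
    (S : Subgroup G) (hfix : ∀ s ∈ S, φ s = s) (hne : S ≠ ⊥)
    (hsimple : ∀ N : Subgroup G, N ≤ S → (∀ s ∈ S, ∀ n ∈ N, s * n * s⁻¹ ∈ N) → N = ⊥ ∨ N = S)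
    (hnorm : ∀ c, φ c = c → ∀ s ∈ S, c * s * c⁻¹ ∈ S)
    (hdiv : p ∣ Nat.card ↥(MonoidHom.eqLocus φ.toMonoidHom (MonoidHom.id G)) → p ∣ Nat.card S)
    (hcent : ∀ α : MulAut G, (∀ s ∈ S, α s = s) → α ^ p = 1) :
    Cfsg.pPrimeCore p ↥(A ⊓ Subgroup.centralizer {φ}) ≠ ⊥ ↔
      Nat.Coprime p (Nat.card ↥(MonoidHom.eqLocus φ.toMonoidHom (MonoidHom.id G))) := by
  classical
  haveI : Finite (MulAut G) := Finite.of_injective (fun α => (α : G → G)) DFunLike.coe_injective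
  set C := MonoidHom.eqLocus φ.toMonoidHom (MonoidHom.id G)
  set D := A ⊓ Subgroup.centralizer ({φ} : Set (MulAut G))
  have hmem : ∀ y, y ∈ C ↔ φ y = y := fun y => Iff.rfl
  have hCD : ∀ y ∈ C, MulAut.conj y ∈ D := fun y hy => ⟨hinn y, (conj_mem_centralizer hinj y).2 hy⟩
  have hDC : ∀ d ∈ D, ∀ y ∈ C, d y ∈ C := by
    intro d hd y hy
    have hd' := Subgroup.mem_centralizer_singleton_iff.1 hd.2
    rw [hmem] at hy ⊢
    calc φ (d y) = (φ * d) y := rfl
      _ = (d * φ) y := by rw [hd']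
      _ = d y := by rw [MulAut.mul_apply, hy]
  constructor
  swap
  · intro hcop hbot
    set L := (C.map MulAut.conj).subgroupOf D
    have hL : L.Normal := by
      refine ⟨fun x hx d => ?_⟩
      obtain ⟨y, hy, hxy⟩ := Subgroup.mem_subgroupOf.1 hx
      refine Subgroup.mem_subgroupOf.2 ⟨(d : MulAut G) y, hDC _ d.2 y hy, ?_⟩
      rw [← aut_conj, hxy]
      rfl
    have hle : L ≤ Cfsg.pPrimeCore p D := H10.le_pPrimeCore hL (by
      rw [Nat.card_congr (Subgroup.subgroupOfEquivOfLe (by rintro _ ⟨y, hy, rfl⟩; exact hCD y hy)).toEquiv,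
        ← Nat.card_congr (Subgroup.equivMapOfInjective C _ hinj).toEquiv]
      exact hcop.symm)
    rw [hbot, le_bot_iff] at hle
    obtain ⟨s, hs, hs1⟩ : ∃ s ∈ S, s ≠ 1 := by
      by_contra h
      push Not at h
      exact hne (Subgroup.eq_bot_iff_forall _ |>.2 h)
    have h1 : (⟨MulAut.conj s, hCD s (hfix s hs)⟩ : D) ∈ L :=
      Subgroup.mem_subgroupOf.2 ⟨s, hfix s hs, rfl⟩
    rw [hle, Subgroup.mem_bot] at h1
    exact hs1 (hinj ((congrArg Subtype.val h1).trans (map_one MulAut.conj).symm))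
  intro hcore
  by_contra hcop
  apply hcore
  have hpC : p ∣ Nat.card C := (Fact.out : p.Prime).dvd_iff_not_coprime.2 hcop
  set N := (Cfsg.pPrimeCore p D).map D.subtype
  have hN : (Nat.card N).Coprime p :=
    Nat.Coprime.coprime_dvd_left (Subgroup.card_map_dvd _ _) H10.pPrimeCore_coprime
  have hNconj : ∀ d ∈ D, ∀ x ∈ N, d * x * d⁻¹ ∈ N := by
    rintro d hd _ ⟨x, hx, rfl⟩
    exact ⟨⟨d, hd⟩ * x * ⟨d, hd⟩⁻¹, H10.pPrimeCore_normal.conj_mem _ hx _, rfl⟩
  set P := N.comap (MulAut.conj : G →* MulAut G) ⊓ C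
  have hPconj : ∀ c ∈ C, ∀ x ∈ P, c * x * c⁻¹ ∈ P := by
    rintro c hc x ⟨hxN, hxC⟩
    refine ⟨?_, C.mul_mem (C.mul_mem hc hxC) (C.inv_mem hc)⟩
    show MulAut.conj (c * x * c⁻¹) ∈ N
    rw [map_mul, map_mul, map_inv]
    exact hNconj _ (hCD c hc) _ hxN
  have hSC : ∀ s ∈ S, s ∈ C := hfix
  have hPS : P ⊓ S = ⊥ := by
    rcases hsimple (P ⊓ S) inf_le_right (fun s hs n hn =>
      ⟨hPconj s (hSC s hs) n hn.1, S.mul_mem (S.mul_mem hs hn.2) (S.inv_mem hs)⟩) with h | h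
    · exact h
    exfalso
    obtain ⟨⟨s, hs⟩, hsp⟩ := exists_prime_orderOf_dvd_card' p (hdiv hpC)
    have hsP : s ∈ P := (h.symm ▸ hs : s ∈ P ⊓ S).1
    rw [Subgroup.orderOf_mk] at hsp
    have h1 := eq_one_of_coprime hN hsP.1
      (show MulAut.conj s ^ p = 1 by rw [← map_pow, ← hsp, pow_orderOf_eq_one, map_one])
    have h2 : s = 1 := hinj (h1.trans (map_one MulAut.conj).symm)
    rw [h2, orderOf_one] at hsp
    exact (Fact.out : p.Prime).ne_one hsp.symm
  have hP : ∀ y ∈ P, y = 1 := by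
    intro y hy
    have hys : ∀ s ∈ S, MulAut.conj y s = s := by
      intro s hs
      have h1 : y * s * y⁻¹ * s⁻¹ ∈ P ⊓ S := by
        refine ⟨?_, S.mul_mem (hnorm y hy.2 s hs) (S.inv_mem hs)⟩
        rw [show y * s * y⁻¹ * s⁻¹ = y * (s * y⁻¹ * s⁻¹) by group]
        exact P.mul_mem hy (hPconj s (hSC s hs) _ (P.inv_mem hy))
      rw [hPS, Subgroup.mem_bot, mul_inv_eq_one] at h1
      exact h1
    exact hinj ((eq_one_of_coprime hN hy.1 (hcent _ hys)).trans (map_one MulAut.conj).symm)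
  rw [eq_bot_iff]
  intro x hx
  rw [Subgroup.mem_bot]
  have hxN : (x : MulAut G) ∈ N := ⟨x, hx, rfl⟩
  have hxs : ∀ s ∈ S, (x : MulAut G) s = s := by
    intro s hs
    have h1 : (x : MulAut G) s * s⁻¹ ∈ P := by
      refine ⟨?_, C.mul_mem (hDC _ x.2 s (hSC s hs)) (C.inv_mem (hSC s hs))⟩
      show MulAut.conj ((x : MulAut G) s * s⁻¹) ∈ N
      rw [map_mul, map_inv, ← aut_conj, show (x : MulAut G) * MulAut.conj s * (x : MulAut G)⁻¹ *
        (MulAut.conj s)⁻¹ = (x : MulAut G) * (MulAut.conj s * (x : MulAut G)⁻¹ * (MulAut.conj s)⁻¹) by group]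
      exact N.mul_mem hxN (hNconj _ (hCD s (hSC s hs)) _ (N.inv_mem hxN))
    exact mul_inv_eq_one.1 (hP _ h1)
  exact Subtype.ext (eq_one_of_coprime hN hxN (hcent _ hxs))

end Bal

end H43
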