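import Cfsg.Agent.H43.Omega
import Cfsg.Agent.H43.Witt
import Cfsg.Agent.H43.Restrict
import Cfsg.Agent.H43.Finite
import Cfsg.Agent.H43.Eichler
import Mathlib

/-!
# Reflections seen through a nearly faithful action of an orthogonal group
-/

set_option autoImplicit false

namespace H43

namespace Bal

variable {K : Type*} [Field K] {V : Type*} [AddCommGroup V] [Module K V] [FiniteDimensional K V]
  {R : QuadraticForm K V} {X : Type*} [Group X] {ρ : orthGroup R →* X}

section Scalar

omit [FiniteDimensional K V] in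
theorem refl_pair_comm {u w : V} (huw : polB R u w = 0) : refl R u * refl R w = refl R w * refl R u := by
  have e : refl R u * refl R w * (refl R u)⁻¹ = refl R w := by
    rw [refl_conj, refl_fix (by rw [polB_comm]; exact huw)]
  rwa [mul_inv_eq_iff_eq_mul] at e

omit [FiniteDimensional K V] in
theorem mem_line_of_refl_eq (h2 : (2 : K) ≠ 0) {u w : V} (hu : R u ≠ 0)
    (h : refl R u = refl R w) : u ∈ K ∙ w := by
  have h1 := congrArg (fun g : orthGroup R => g.1 u) h
  simp only [refl_self hu, refl_apply] at h1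
  refine Submodule.mem_span_singleton.2 ⟨((R w)⁻¹ * polB R u w) * 2⁻¹, ?_⟩
  have h4 : ((R w)⁻¹ * polB R u w) • w = (2 : K) • u := by
    linear_combination (norm := module) h1
  rw [mul_comm, mul_smul, h4, smul_smul, inv_mul_cancel₀ h2, one_smul]

/-- complements of non-degenerate pieces -/
theorem nondeg_orth (hR : (polB R).Nondegenerate) {W : Submodule K V}
    (hW : W ⊓ (polB R).orthogonal W = ⊥) :
    (polB (R.restrict ((polB R).orthogonal W))).Nondegenerate := by
  apply restrict_nondeg
  rw [LinearMap.BilinForm.orthogonal_orthogonal hR (polB_isRefl R), inf_comm]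
  exact hW

theorem inf_orth_singleton (h2 : (2 : K) ≠ 0) {u : V} (hu : R u ≠ 0) :
    (K ∙ u) ⊓ (polB R).orthogonal (K ∙ u) = ⊥ := by
  rw [Submodule.eq_bot_iff]
  rintro x ⟨hx, hx'⟩
  obtain ⟨a, rfl⟩ := Submodule.mem_span_singleton.1 hx
  have := mem_orth_singleton.1 hx'
  rw [map_smul, polB_self, smul_eq_mul, mul_eq_zero] at this
  rcases this with h | h
  · rw [h, zero_smul]
  · exact absurd h (mul_ne_zero h2 hu)

theorem inf_orth_pair (h2 : (2 : K) ≠ 0) {u v : V} (hu : R u ≠ 0) (hv : R v ≠ 0)
    (huv : polB R u v = 0) :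
    Submodule.span K {u, v} ⊓ (polB R).orthogonal (Submodule.span K {u, v}) = ⊥ := by
  rw [Submodule.eq_bot_iff]
  rintro x ⟨hx, hx'⟩
  obtain ⟨a, b, rfl⟩ := Submodule.mem_span_pair.1 hx
  obtain ⟨h1, h3⟩ := mem_orth_pair.1 hx'
  simp only [map_add, map_smul, polB_self, huv, polB_comm v u, smul_eq_mul, mul_zero, add_zero,
    zero_add, mul_eq_zero] at h1 h3
  simp only [h2, hu, hv, or_false] at h1 h3
  rw [h1, h3, zero_smul, zero_smul, add_zero]

variable [Finite K]

/-- a value taken on the complement of two orthogonal non-singular vectors -/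
theorem exists_orth_pair_value (hR : (polB R).Nondegenerate) (h2 : (2 : K) ≠ 0)
    (hd : 4 ≤ Module.finrank K V) {u v : V} (hu : R u ≠ 0) (hv : R v ≠ 0) (huv : polB R u v = 0)
    (a : K) : ∃ z, polB R u z = 0 ∧ polB R v z = 0 ∧ R z = a := by
  rcases eq_or_ne a 0 with rfl | ha
  · exact ⟨0, by simp, by simp, by simp⟩
  obtain ⟨z, hz⟩ := exists_qmap_eq (nondeg_orth hR (inf_orth_pair h2 hu hv huv))
    (by have := finrank_orth_pair hR u v; omega) a ha
  exact ⟨z.1, (mem_orth_pair.1 z.2).1, (mem_orth_pair.1 z.2).2, by rwa [QuadraticMap.restrict_apply] at hz⟩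

/-- a value taken on the complement of a non-singular vector -/
theorem exists_orth_value (hR : (polB R).Nondegenerate) (h2 : (2 : K) ≠ 0)
    (hd : 3 ≤ Module.finrank K V) {u : V} (hu : R u ≠ 0) {a : K} (ha : a ≠ 0) :
    ∃ z, polB R u z = 0 ∧ R z = a := by
  have hu0 : u ≠ 0 := fun h => hu (by rw [h, map_zero])
  obtain ⟨z, hz⟩ := exists_qmap_eq (nondeg_orth hR (inf_orth_singleton h2 hu))
    (by have := finrank_orth_singleton hR hu0; omega) a ha
  exact ⟨z.1, mem_orth_singleton.1 z.2, by rwa [QuadraticMap.restrict_apply] at hz⟩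

/-- an additive map fixing every non-singular line is a scalar -/
theorem exists_scalar_of_lines (hR : (polB R).Nondegenerate) (h2 : (2 : K) ≠ 0)
    (hd : 3 ≤ Module.finrank K V) (T : V →+ V) (hT : ∀ v, R v ≠ 0 → ∃ l : K, T v = l • v) :
    ∃ l : K, ∀ v, T v = l • v := by
  classical
  choose! f hf using hT
  have hne : ∀ {v : V}, R v ≠ 0 → v ≠ 0 := fun hv h => hv (by rw [h, map_zero])
  -- orthogonal pairs with non-singular sum
  have hsum : ∀ u w, R u ≠ 0 → R w ≠ 0 → polB R u w = 0 → R u + R w ≠ 0 → f u = f w := by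
    intro u w hu hw huw hsw
    have hs : R (u + w) ≠ 0 := by rw [qmap_add, huw, add_zero]; exact hsw
    have h1 := hf (u + w) hs
    rw [map_add, hf u hu, hf w hw] at h1
    have e1 := congrArg (fun y => polB R u y) h1
    have e2 := congrArg (fun y => polB R w y) h1
    simp only [map_add, map_smul, huw, polB_comm w u, polB_self, smul_eq_mul, mul_zero, add_zero,
      zero_add] at e1 e2
    rw [mul_right_cancel₀ (mul_ne_zero h2 hu) e1, mul_right_cancel₀ (mul_ne_zero h2 hw) e2]
  have horth : ∀ u w, R u ≠ 0 → R w ≠ 0 → polB R u w = 0 → f u = f w := by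
    intro u w hu hw huw
    by_cases hsw : R u + R w = 0
    swap
    · exact hsum u w hu hw huw hsw
    obtain ⟨z, hz⟩ : ∃ z : (polB R).orthogonal (Submodule.span K {u, w}), R z.1 ≠ 0 := by
      have hnd := nondeg_orth hR (inf_orth_pair h2 hu hw huw)
      have hd1 : 1 ≤ Module.finrank K ((polB R).orthogonal (Submodule.span K {u, w})) := by
        have := finrank_orth_pair hR u w; omega
      haveI := Module.nontrivial_of_finrank_pos (R := K) (M := (polB R).orthogonal (Submodule.span K {u, w}))
        (by omega)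
      by_contra hno
      push Not at hno
      obtain ⟨y, hy⟩ := exists_ne (0 : (polB R).orthogonal (Submodule.span K {u, w}))
      refine hy (eq_zero_of_polB_eq_zero hnd fun y' => ?_)
      rw [polB_apply, QuadraticMap.polar]
      simp only [QuadraticMap.restrict_apply, hno, sub_self]
    obtain ⟨hzu, hzw⟩ := mem_orth_pair.1 z.2
    set t := u + z.1 + w
    have ht : R t = R z.1 := by
      simp only [t, qmap_add, map_add, LinearMap.add_apply, hzu, huw, polB_comm z.1 w, hzw, add_zero]
      linear_combination hsw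
    have h1 := hf t (by rw [ht]; exact hz)
    simp only [t, map_add, hf u hu, hf z.1 hz, hf w hw] at h1
    have e1 := congrArg (fun y => polB R u y) h1
    have e2 := congrArg (fun y => polB R w y) h1
    simp only [map_add, map_smul, huw, hzu, hzw, polB_comm w u, polB_self, smul_eq_mul, mul_zero,
      add_zero, zero_add] at e1 e2
    rw [mul_right_cancel₀ (mul_ne_zero h2 hu) e1, mul_right_cancel₀ (mul_ne_zero h2 hw) e2]
  -- proportional vectors
  have hprop : ∀ (u : V) (a : K), R u ≠ 0 → R (a • u) ≠ 0 → f (a • u) = f u := by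
    intro u a hu hau
    obtain ⟨z, hzu, hz⟩ := exists_orth_value hR h2 hd hu hu
    have hzn : R z ≠ 0 := by rw [hz]; exact hu
    exact (horth (a • u) z hau hzn (by simp [hzu])).trans (horth u z hu hzn hzu).symm
  -- vectors whose orthogonal component is non-singular
  have hgen : ∀ (u w w₁ : V) (b : K), R u ≠ 0 → R w ≠ 0 → R w₁ ≠ 0 → polB R u w₁ = 0 →
      w = b • u + w₁ → f u = f w := by
    intro u w w₁ b hu hw hw1 hperp e
    have hu1 := horth u w₁ hu hw1 hperp
    by_cases hb : b = 0
    · rw [hu1, e, hb, zero_smul, zero_add]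
    have hbu : R (b • u) ≠ 0 := by
      rw [qmap_smul]; exact mul_ne_zero (mul_ne_zero hb hb) hu
    have h1 := hf w hw
    nth_rewrite 1 [e] at h1
    rw [map_add, hf _ hbu, hf _ hw1, hprop u b hu hbu, ← hu1, ← smul_add, ← e] at h1
    exact smul_left_injective K (hne hw) h1
  have hall : ∀ u w, R u ≠ 0 → R w ≠ 0 → f u = f w := by
    intro u w hu hw
    set b := polB R u w * (2 * R u)⁻¹ with hb
    set w₁ := w - b • u with hw₁
    have hperp : polB R u w₁ = 0 := by
      rw [hw₁, map_sub, map_smul, polB_self, smul_eq_mul, hb, mul_assoc,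
        inv_mul_cancel₀ (mul_ne_zero h2 hu), mul_one, sub_self]
    have e : w = b • u + w₁ := by rw [hw₁]; abel
    by_cases hw1 : R w₁ = 0
    swap
    · exact hgen u w w₁ b hu hw hw1 hperp e
    by_cases hw10 : w₁ = 0
    · rw [e, hw10, add_zero] at hw ⊢
      exact (hprop u b hu hw).symm
    have hb0 : b ≠ 0 := fun h => hw (by rw [e, h, zero_smul, zero_add, hw1])
    obtain ⟨f', hp, hf'⟩ := exists_hypPair_orth hR hw1 (W := K ∙ u)
      (fun h => by
        obtain ⟨a, ha⟩ := Submodule.mem_span_singleton.1 h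
        rw [← ha, map_smul, polB_self, smul_eq_mul, mul_eq_zero] at hperp
        rcases hperp with ha0 | ha0
        · exact hw10 (by rw [← ha, ha0, zero_smul])
        · exact mul_ne_zero h2 hu ha0)
      (fun y hy => by
        obtain ⟨a, rfl⟩ := Submodule.mem_span_singleton.1 hy
        simp [hperp])
    have huf : polB R u f' = 0 := hf' u (Submodule.mem_span_singleton_self u)
    set c : K := -(4 * (b * b) * R u) with hc
    have hbb : b * b * R u ≠ 0 := mul_ne_zero (mul_ne_zero hb0 hb0) hu
    have hc0 : c ≠ 0 := by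
      rw [hc, neg_ne_zero, show (4 : K) * (b * b) * R u = 2 * 2 * (b * b * R u) by ring]
      exact mul_ne_zero (mul_ne_zero h2 h2) hbb
    set v := w₁ + c • f' with hv
    have hRv : R v = c := by
      rw [hv, qmap_add_smul, hw1, hp.right, hp.pair]; ring
    have huv : polB R u v = 0 := by simp [hv, hperp, huf]
    have hBw : polB R v w = c := by
      rw [polB_comm, e, hv]
      simp [map_add, map_smul, hperp, huf, polB_self, hw1, hp.pair]
    set w₂ := w - (2 : K)⁻¹ • v with hw₂
    have hperp₂ : polB R v w₂ = 0 := by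
      rw [hw₂, map_sub, map_smul, hBw, polB_self, hRv, smul_eq_mul, inv_mul_cancel_left₀ h2, sub_self]
    have hRw₂ : R w₂ ≠ 0 := by
      have e2 : R w = b * b * R u := by
        rw [e, qmap_add, qmap_smul, hw1, map_smul, LinearMap.smul_apply, hperp, smul_zero]; ring
      rw [hw₂, qmap_sub, qmap_smul, hRv, map_smul, polB_comm w v, hBw, smul_eq_mul, e2, hc]
      rw [show b * b * R u + 2⁻¹ * 2⁻¹ * -(4 * (b * b) * R u) - 2⁻¹ * -(4 * (b * b) * R u) =
        2 * (b * b * R u) by field_simp; ring]
      exact mul_ne_zero h2 hbb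
    exact (horth u v hu (by rw [hRv]; exact hc0) huv).trans
      (hgen v w w₂ (2 : K)⁻¹ (by rw [hRv]; exact hc0) hw hRw₂ hperp₂ (by rw [hw₂]; abel))
  obtain ⟨u, hu⟩ : ∃ u, R u ≠ 0 := by
    obtain ⟨v, hv⟩ := exists_qmap_eq hR (by omega) 1 one_ne_zero
    exact ⟨v, by rw [hv]; exact one_ne_zero⟩
  refine ⟨f u, fun v => ?_⟩
  by_cases hv : R v = 0
  swap
  · rw [hf v hv, hall v u hv hu]
  -- `v` is a sum of two non-singular vectors
  have hdec : ∀ a b : V, R a ≠ 0 → R b ≠ 0 → T (a + b) = f u • (a + b) := fun a b ha hb => by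
    rw [map_add, hf a ha, hf b hb, hall a u ha hu, hall b u hb hu, smul_add]
  by_cases hvu : R u - polB R u v = 0
  · have hB : polB R u v = R u := (sub_eq_zero.1 hvu).symm
    have h3 : R (v + u) = 2 * R u := by rw [qmap_add, hv, polB_comm, hB]; ring
    have := hdec (v + u) (-u) (by rw [h3]; exact mul_ne_zero h2 hu) (by rw [qmap_neg]; exact hu)
    rwa [add_neg_cancel_right] at this
  · have := hdec u (v - u) hu (by rw [qmap_sub, hv, polB_comm]; simpa using hvu)
    rwa [add_sub_cancel] at this

end Scalar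

section Action

variable (hker : ∀ h, ρ h = 1 → h = 1 ∨ h = negOrth R)

include hker

/-- the action is faithful on rotations -/
theorem eq_of_rho_eq (hodd : Odd (Module.finrank K V)) (h2 : (2 : K) ≠ 0) {a b : orthGroup R}
    (hab : ρ a = ρ b) (hdet : detHom R a = detHom R b) : a = b := by
  rcases hker (b⁻¹ * a) (by rw [map_mul, map_inv, hab, inv_mul_cancel]) with h | h
  · exact (inv_mul_eq_one.1 h).symm
  exfalso
  have h1 := congrArg (detHom R) h
  rw [map_mul, map_inv, hdet, inv_mul_cancel, detHom_negOrth, hodd.neg_one_pow] at h1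
  have h3 : (1 : K) = -1 := congrArg Units.val h1
  exact h2 (by linear_combination h3)

theorem line_of_rho_refl (hodd : Odd (Module.finrank K V)) (h2 : (2 : K) ≠ 0) {u w : V} (hu : R u ≠ 0)
    (hw : R w ≠ 0) (h : ρ (refl R u) = ρ (refl R w)) : u ∈ K ∙ w :=
  mem_line_of_refl_eq h2 hu (eq_of_rho_eq hker hodd h2 h (by rw [detHom_refl hu, detHom_refl hw]))

variable [Finite K]

/-- in dimension at least four an odd subgroup normalised by the reflections contains no product of two
reflections -/
theorem near_eq (hR : (polB R).Nondegenerate) (h2 : (2 : K) ≠ 0) (hd : 4 ≤ Module.finrank K V)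
    (hodd : Odd (Module.finrank K V)) (M : Subgroup X) (hMo : Odd (Nat.card M))
    (hnorm : ∀ h, ∀ m ∈ M, ρ h * m * (ρ h)⁻¹ ∈ M) {u w : V} (hu : R u ≠ 0) (hw : R w ≠ 0)
    (huw : ρ (refl R u * refl R w) ∈ M) : w ∈ K ∙ u := by
  by_contra hline
  have hne : ∀ {v : V}, R v ≠ 0 → v ≠ 0 := fun hv h => hv (by rw [h, map_zero])
  -- perpendicular pairs are excluded
  have hno : ∀ a b, R a ≠ 0 → R b ≠ 0 → polB R a b = 0 → ρ (refl R a * refl R b) ∉ M := by
    intro a b ha hb hab hm
    have hsq : ρ (refl R a * refl R b) * ρ (refl R a * refl R b) = 1 := by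
      rw [← map_mul, show refl R a * refl R b * (refl R a * refl R b) =
        refl R a * (refl R b * refl R a) * refl R b by simp only [mul_assoc],
        ← refl_pair_comm hab, ← mul_assoc, refl_sq, one_mul, refl_sq, map_one]
    have h1 : ρ (refl R a * refl R b) = 1 := by
      have hd2 : orderOf (⟨_, hm⟩ : M) ∣ 2 := orderOf_dvd_of_pow_eq_one (Subtype.ext (by
        rw [SubmonoidClass.coe_pow, pow_two]; exact hsq))
      rcases (Nat.dvd_prime Nat.prime_two).1 hd2 with h | h
      · exact congrArg Subtype.val (orderOf_eq_one_iff.1 h)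
      · exact absurd (h ▸ orderOf_dvd_natCard (⟨_, hm⟩ : M)) hMo.not_two_dvd_nat
    have h3 := eq_of_rho_eq hker hodd h2 (h1.trans (map_one ρ).symm)
      (by rw [map_mul, detHom_refl ha, detHom_refl hb, map_one, neg_mul_neg, one_mul])
    rw [mul_eq_one_iff_eq_inv, refl_inv] at h3
    obtain ⟨l, hl⟩ := Submodule.mem_span_singleton.1 (mem_line_of_refl_eq h2 ha h3)
    rw [← hl, map_smul, LinearMap.smul_apply, polB_self, smul_eq_mul] at hab
    have hl0 : l ≠ 0 := fun e => hne ha (by rw [← hl, e, zero_smul])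
    exact mul_ne_zero hl0 (mul_ne_zero h2 hb) hab
  set al := polB R u w * (2 * R u)⁻¹ with hal
  set v₀ := w - al • u with hv₀
  have hperp : polB R u v₀ = 0 := by
    rw [hv₀, map_sub, map_smul, polB_self, smul_eq_mul, hal, mul_assoc,
      inv_mul_cancel₀ (mul_ne_zero h2 hu), mul_one, sub_self]
  have hv00 : v₀ ≠ 0 := fun h => hline (Submodule.mem_span_singleton.2 ⟨al, (sub_eq_zero.1 h).symm⟩)
  have hw' : w = al • u + v₀ := by rw [hv₀]; abel
  have hnotmem : ∀ {x : V}, polB R u x = 0 → x ≠ 0 → x ∉ K ∙ u := by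
    intro x hx hx0 h
    obtain ⟨a, rfl⟩ := Submodule.mem_span_singleton.1 h
    rw [map_smul, polB_self, smul_eq_mul, mul_eq_zero] at hx
    rcases hx with e | e
    · exact hx0 (by rw [e, zero_smul])
    · exact mul_ne_zero h2 hu e
  set t : K := -(2 * (al * al) * R u) with ht
  obtain ⟨v', hv'u, hv'0, hv'R, hv'B⟩ : ∃ v', polB R u v' = 0 ∧ v' ≠ 0 ∧ R v' = R v₀ ∧ polB R v₀ v' = t := by
    by_cases hQ0 : R v₀ = 0
    · obtain ⟨f, hp, hf⟩ := exists_hypPair_orth hR hQ0 (hnotmem hperp hv00) (fun y hy => by
        obtain ⟨a, rfl⟩ := Submodule.mem_span_singleton.1 hy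
        simp [hperp])
      have hal0 : al ≠ 0 := fun h => hw (by rw [hw', h, zero_smul, zero_add, hQ0])
      have ht0 : t ≠ 0 := by
        rw [ht, neg_ne_zero]; exact mul_ne_zero (mul_ne_zero h2 (mul_ne_zero hal0 hal0)) hu
      refine ⟨t • f, ?_, smul_ne_zero ht0 hp.symm.left_ne_zero, ?_, ?_⟩
      · rw [map_smul, hf u (Submodule.mem_span_singleton_self u), smul_zero]
      · rw [qmap_smul, hp.right, mul_zero, hQ0]
      · rw [map_smul, hp.pair, smul_eq_mul, mul_one]
    · set l := t * (2 * R v₀)⁻¹ with hl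
      obtain ⟨z, hzu, hzv, hz⟩ := exists_orth_pair_value hR h2 hd hu hQ0 hperp ((1 - l * l) * R v₀)
      have e : R (l • v₀ + z) = R v₀ := by
        rw [qmap_add, qmap_smul, map_smul, LinearMap.smul_apply, hzv, hz, smul_zero]; ring
      refine ⟨l • v₀ + z, by simp [hperp, hzu], fun h => hQ0 (by rw [← e, h, map_zero]), e, ?_⟩
      rw [map_add, map_smul, polB_self, hzv, add_zero, smul_eq_mul, hl, mul_assoc,
        inv_mul_cancel₀ (mul_ne_zero h2 hQ0), mul_one]
  have hli : ∀ {x : V}, polB R u x = 0 → x ≠ 0 → LinearIndependent K ![u, x] := fun hx hx0 => by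
    rw [LinearIndependent.pair_iff]
    intro s r hsr
    have h1 := congrArg (fun y => polB R u y) hsr
    simp only [map_add, map_smul, hx, polB_self, smul_eq_mul, mul_zero, add_zero, map_zero] at h1
    have hs : s = 0 := (mul_eq_zero.1 h1).resolve_right (mul_ne_zero h2 hu)
    rw [hs, zero_smul, zero_add] at hsr
    exact ⟨hs, (smul_eq_zero.1 hsr).resolve_right hx0⟩
  obtain ⟨h, hhu, hhv⟩ := exists_orth_map₂ hR (hli hperp hv00) (hli hv'u hv'0) rfl hv'R.symm
    (by rw [hperp, hv'u])
  have hhw : h.1 w = al • u + v' := by rw [hw', map_add, map_smul, hhu, hhv]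
  have horth : polB R w (h.1 w) = 0 := by
    rw [hhw, hw']
    simp only [map_add, map_smul, LinearMap.add_apply, LinearMap.smul_apply, smul_eq_mul, polB_self,
      hv'u, hv'B, polB_comm v₀ u, hperp, ht]
    ring
  have hm2 : ρ (refl R u * refl R (h.1 w)) ∈ M := by
    have := hnorm h _ huw
    rwa [← map_inv, ← map_mul, ← map_mul, show h * (refl R u * refl R w) * h⁻¹ =
      (h * refl R u * h⁻¹) * (h * refl R w * h⁻¹) by group, refl_conj, refl_conj, hhu] at this
  refine hno w (h.1 w) hw (by rw [orth_qmap]; exact hw) horth ?_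
  have e : refl R w * refl R (h.1 w) = (refl R u * refl R w)⁻¹ * (refl R u * refl R (h.1 w)) := by
    rw [_root_.mul_inv_rev, refl_inv, refl_inv, mul_assoc, ← mul_assoc (refl R u), refl_sq, one_mul]
  rw [e, map_mul, map_inv]
  exact M.mul_mem (M.inv_mem huw) hm2

/-- commuting with products of two reflections fixes every non-singular line -/
theorem line_of_pairs (hR : (polB R).Nondegenerate) (h2 : (2 : K) ≠ 0) (hd : 4 ≤ Module.finrank K V)
    (hodd : Odd (Module.finrank K V)) (T : V → V) (hT0 : ∀ u, R u ≠ 0 → R (T u) ≠ 0)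
    (hTperp : ∀ u v, polB R u v = 0 → polB R (T u) (T v) = 0)
    (hcomm : ∀ u v, R u ≠ 0 → R u = R v → polB R u v = 0 →
      ρ (refl R (T u) * refl R (T v)) = ρ (refl R u * refl R v))
    {u : V} (hu : R u ≠ 0) : ∃ l : K, T u = l • u := by
  have hmem : ∀ v, R u = R v → polB R u v = 0 → T u ∈ Submodule.span K {u, v} := by
    intro v huv hperp
    have hv : R v ≠ 0 := huv ▸ hu
    have h1 := eq_of_rho_eq hker hodd h2 (hcomm u v hu huv hperp) (by
      rw [map_mul, map_mul, detHom_refl (hT0 u hu), detHom_refl (hT0 v hv), detHom_refl hu, detHom_refl hv])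
    have h3 := congrArg (fun g : orthGroup R => g.1 (T u)) h1
    simp only [orth_mul_apply] at h3
    rw [refl_fix (hTperp u v hperp), refl_self (hT0 u hu)] at h3
    simp only [refl_apply] at h3
    have h4 : (2 : K) • T u ∈ Submodule.span K {u, v} := by
      refine Submodule.mem_span_pair.2 ⟨_, _, (?_ : ((R u)⁻¹ * polB R (T u - ((R v)⁻¹ * polB R (T u) v) • v) u) • u +
        ((R v)⁻¹ * polB R (T u) v) • v = _)⟩
      linear_combination (norm := module) h3
    simpa [smul_smul, inv_mul_cancel₀ h2] using Submodule.smul_mem _ (2 : K)⁻¹ h4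
  obtain ⟨v, hv, hRv⟩ := exists_orth_value hR h2 (by omega) hu hu
  obtain ⟨v', hv'u, hv'v, hRv'⟩ := exists_orth_pair_value hR h2 hd hu (by rw [hRv]; exact hu) hv (R u)
  obtain ⟨a, b, hab⟩ := Submodule.mem_span_pair.1 (hmem v hRv.symm hv)
  obtain ⟨a', b', hab'⟩ := Submodule.mem_span_pair.1 (hmem v' hRv'.symm hv'u)
  refine ⟨a, ?_⟩
  have h1 := congrArg (fun y => polB R v y) (hab.trans hab'.symm)
  simp only [map_add, map_smul, polB_self, polB_comm v u, hv, hv'v, hRv, smul_eq_mul, mul_zero,
    zero_add, add_zero] at h1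
  rw [← hab, (mul_eq_zero.1 h1).resolve_right (mul_ne_zero h2 hu), zero_smul, add_zero]

omit hker in
/-- in dimension three the only normal subgroup of odd order is trivial -/
theorem three_eq_one (hR : (polB R).Nondegenerate) (h2 : (2 : K) ≠ 0) (hd : Module.finrank K V = 3)
    (H : Subgroup (orthGroup R)) [H.Normal] (hHo : Odd (Nat.card H)) {h : orthGroup R} (hh : h ∈ H) :
    h = 1 := by
  classical
  haveI : Finite V := Module.finite_of_finite K
  haveI : Finite (orthGroup R) := finite_orthGroup
  haveI : Finite H := inferInstance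
  obtain ⟨e₀, he0', he₀⟩ := exists_singular R (by omega)
  letI act : MulAction (orthGroup R) (Submodule K V) :=
    { smul := fun g W => W.map (g.1 : V →ₗ[K] V)
      one_smul := fun W => by
        show W.map ((1 : orthGroup R).1 : V →ₗ[K] V) = W
        exact Submodule.map_id W
      mul_smul := fun g g' W => by
        show W.map (((g * g').1 : V ≃ₗ[K] V) : V →ₗ[K] V) = (W.map (g'.1 : V →ₗ[K] V)).map (g.1 : V →ₗ[K] V)
        rw [← Submodule.map_comp]; rfl }
  have hline : ∀ (g : orthGroup R) (x : V), g • (K ∙ x) = K ∙ g.1 x := fun g x => by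
    show (K ∙ x).map (g.1 : V →ₗ[K] V) = _
    rw [Submodule.map_span, Set.image_singleton]; rfl
  -- singular lines are fixed
  have hfix : ∀ s, R s = 0 → s ≠ 0 → h.1 s ∈ K ∙ s := by
    intro s hs hs0
    by_contra hmv
    have hs'0 : h.1 s ≠ 0 := fun e => hs0 (by simpa using congrArg h.1.symm e)
    have hs' : R (h.1 s) = 0 := by rw [orth_qmap, hs]
    set O := MulAction.orbit H (K ∙ s) with hO
    -- two distinct singular lines are never orthogonal
    have hno : ∀ a b, R a = 0 → R b = 0 → a ≠ 0 → b ∉ K ∙ a → polB R a b ≠ 0 := by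
      intro a b ha hb ha0 hba hab
      have hW : ∀ x ∈ Submodule.span K {a, b}, R x = 0 := by
        intro x hx
        obtain ⟨p, q, rfl⟩ := Submodule.mem_span_pair.1 hx
        rw [qmap_add, qmap_smul, qmap_smul, ha, hb]
        simp [hab]
      have h1 := two_mul_finrank_singular_le hR _ hW
      have h3 : Module.finrank K (Submodule.span K {a, b}) = 2 := by
        have hli : LinearIndependent K ![a, b] := (LinearIndependent.pair_iff' ha0).2
          fun p hp => hba (Submodule.mem_span_singleton.2 ⟨p, hp⟩)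
        rw [show ({a, b} : Set V) = Set.range ![a, b] by ext y; simp [Fin.exists_fin_two, eq_comm, or_comm]]
        exact (finrank_span_eq_card hli).trans (Fintype.card_fin 2)
      omega
    have hall : ∀ z, R z = 0 → z ≠ 0 → K ∙ z ∈ O := by
      intro z hz hz0
      by_cases hzs : z ∈ K ∙ s
      · rw [(Submodule.span_singleton_eq_span_singleton.2 ?_ : K ∙ z = K ∙ s)]
        · exact MulAction.mem_orbit_self _
        · obtain ⟨a, ha⟩ := Submodule.mem_span_singleton.1 hzs
          have ha0 : a ≠ 0 := fun e => hz0 (by rw [← ha, e, zero_smul])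
          exact ⟨(Units.mk0 a ha0)⁻¹, by rw [← ha]; simp [Units.smul_def, smul_smul, ha0]⟩
      have hA := hno s (h.1 s) hs hs' hs0 hmv
      have hB := hno s z hs hz hs0 hzs
      have hp1 : HypPair R s ((polB R s (h.1 s))⁻¹ • h.1 s) :=
        ⟨hs, by rw [qmap_smul, hs', mul_zero], by rw [map_smul, smul_eq_mul, inv_mul_cancel₀ hA]⟩
      have hp2 : HypPair R s ((polB R s z)⁻¹ • z) :=
        ⟨hs, by rw [qmap_smul, hz, mul_zero], by rw [map_smul, smul_eq_mul, inv_mul_cancel₀ hB]⟩
      obtain ⟨g, hg1, hg2⟩ := exists_orth_map_hypPair hR hp1 hp2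
      refine ⟨⟨g * h * g⁻¹, ‹H.Normal›.conj_mem h hh g⟩, ?_⟩
      show (g * h * g⁻¹) • (K ∙ s) = K ∙ z
      rw [hline, orth_mul_apply, orth_mul_apply,
        show (g⁻¹).1 s = s by conv_lhs => rw [← hg1, orth_inv_apply_self], ]
      rw [map_smul] at hg2
      have e : g.1 (h.1 s) = (polB R s (h.1 s) * (polB R s z)⁻¹) • z := by
        rw [mul_smul, ← hg2, smul_smul, mul_inv_cancel₀ hA, one_smul]
      rw [e, Submodule.span_singleton_smul_eq (IsUnit.mk0 _ (mul_ne_zero hA (inv_ne_zero hB)))]
    -- a reflection with anisotropic complement moves every singular line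
    obtain ⟨e', hp⟩ := exists_hypPair hR he₀ he0'
    obtain ⟨z, hz⟩ : ∃ z : (polB R).orthogonal (Submodule.span K {e₀, e'}), R z.1 ≠ 0 := by
      have hnd := hp.restrict_nondeg hR
      have hd1 := finrank_orth_pair hR e₀ e'
      haveI := Module.nontrivial_of_finrank_pos (R := K)
        (M := (polB R).orthogonal (Submodule.span K {e₀, e'})) (by omega)
      by_contra hno'
      push Not at hno'
      obtain ⟨y, hy⟩ := exists_ne (0 : (polB R).orthogonal (Submodule.span K {e₀, e'}))
      refine hy (eq_zero_of_polB_eq_zero hnd fun y' => ?_)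
      rw [polB_apply, QuadraticMap.polar]
      simp only [QuadraticMap.restrict_apply, hno', sub_self]
    obtain ⟨ν, hν⟩ := FiniteField.exists_nonsquare (F := K) (by
      intro hc
      haveI : CharP K 2 := ringChar.of_eq hc
      exact h2 CharTwo.two_eq_zero)
    obtain ⟨hze, hze'⟩ := mem_orth_pair.1 z.2
    set d := R z.1
    set a := d * ν with ha
    have ha0 : a ≠ 0 := mul_ne_zero hz fun e => hν (e ▸ ⟨0, by ring⟩)
    set u := a • e₀ + e' with hu
    have hRu : R u = a := by
      rw [hu, qmap_add, qmap_smul, he₀, hp.right, map_smul, LinearMap.smul_apply, hp.pair]; simp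
    have hbasis : ∀ x, ∃ p q r : K, x = p • e₀ + q • e' + r • z.1 := by
      intro x
      have hli : LinearIndependent K ![e₀, e', z.1] := by
        rw [Fintype.linearIndependent_iff]
        intro g hg
        simp [Fin.sum_univ_three] at hg
        have q0 := congrArg (fun y => polB R e₀ y) hg
        have q1 := congrArg (fun y => polB R e' y) hg
        have q2 := congrArg (fun y => polB R z.1 y) hg
        simp [polB_self, he₀, hp.pair, hp.symm.pair, hp.right, hze, hze', polB_comm z.1 e₀,
          polB_comm z.1 e', h2, hz, d] at q0 q1 q2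
        intro i
        fin_cases i <;> simp [q0, q1, q2]
      have htop := hli.span_eq_top_of_card_eq_finrank' (by simp [hd])
      have hx : x ∈ Submodule.span K (Set.range ![e₀, e', z.1]) := htop ▸ Submodule.mem_top
      rw [Submodule.mem_span_range_iff_exists_fun] at hx
      obtain ⟨g, hg⟩ := hx
      exact ⟨g 0, g 1, g 2, by simpa [Fin.sum_univ_three] using hg.symm⟩
    have hmoves : ∀ x, R x = 0 → x ≠ 0 → (refl R u).1 x ∉ K ∙ x := by
      intro x hx hx0 hmem
      obtain ⟨l, hl⟩ := Submodule.mem_span_singleton.1 hmem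
      rw [refl_apply, hRu] at hl
      set b := a⁻¹ * polB R x u
      have h5 : b • u = (1 - l) • x := by linear_combination (norm := module) hl
      rcases eq_or_ne b 0 with hb | hb
      swap
      · have h6 : b * b * a = 0 := by
          rw [← hRu, ← qmap_smul, h5, qmap_smul, hx, mul_zero]
        exact mul_ne_zero (mul_ne_zero hb hb) ha0 h6
      have hperp : polB R x u = 0 := (mul_eq_zero.1 hb).resolve_left (inv_ne_zero ha0)
      obtain ⟨p, q, r, rfl⟩ := hbasis x
      simp [hu, map_add, map_smul, polB_self, he₀, hp.pair, hp.symm.pair, hp.right,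
        polB_comm z.1 e₀, polB_comm z.1 e', hze, hze'] at hperp
      simp [qmap_add, qmap_smul, map_add, map_smul, he₀, hp.pair, hp.right, hze, hze', d] at hx
      have hp0 : p = -(q * a) := by linear_combination hperp
      have h7 : r * r = ν * (q * q) := by
        refine mul_right_cancel₀ hz ?_
        rw [hp0] at hx
        linear_combination hx + (q * q) * ha
      rcases eq_or_ne q 0 with hq | hq
      · have hr : r = 0 := mul_self_eq_zero.1 (by rw [h7, hq]; ring)
        exact hx0 (by rw [hp0, hq, hr]; simp)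
      · exact hν ⟨r / q, by field_simp; linear_combination -h7⟩
    have horb : ∀ W ∈ O, ∃ x, R x = 0 ∧ x ≠ 0 ∧ W = K ∙ x := by
      rintro _ ⟨g, rfl⟩
      exact ⟨g.1.1 s, by rw [orth_qmap, hs], fun e => hs0 (by simpa using congrArg g.1.1.symm e), hline g.1 s⟩
    have hinv : ∀ W ∈ O, refl R u • W ∈ O := by
      intro W hW
      obtain ⟨x, hx, hx0, rfl⟩ := horb W hW
      rw [hline]
      exact hall _ (by rw [orth_qmap, hx]) fun e => hx0 (by simpa using congrArg (refl R u).1.symm e)
    let σ : Function.End O := fun W => ⟨refl R u • W.1, hinv W.1 W.2⟩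
    haveI : Finite O := Finite.Set.finite_range _
    haveI : Fintype O := Fintype.ofFinite O
    have hσ : σ ^ 2 ^ 1 = 1 := by
      funext W
      apply Subtype.ext
      show refl R u • (refl R u • W.1) = W.1
      rw [← mul_smul, refl_sq, one_smul]
    have hno2 : IsEmpty (Function.fixedPoints σ) := ⟨fun W => by
      obtain ⟨x, hx, hx0, hW⟩ := horb W.1.1 W.1.2
      have h1 : refl R u • W.1.1 = W.1.1 := congrArg Subtype.val W.2
      rw [hW, hline] at h1
      exact hmoves x hx hx0 (h1 ▸ Submodule.mem_span_singleton_self _)⟩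
    have h1 := Equiv.Perm.card_fixedPoints_modEq (p := 2) hσ
    rw [Fintype.card_eq_zero (α := Function.fixedPoints σ), Nat.modEq_zero_iff_dvd] at h1
    have h3 : Nat.card O ∣ Nat.card H := by
      rw [Nat.card_congr (MulAction.orbitEquivQuotientStabilizer H (K ∙ s))]
      exact Subgroup.card_quotient_dvd_card _
    exact hHo.not_two_dvd_nat ((Nat.card_eq_fintype_card (α := O) ▸ h1).trans h3)
  -- hence `h` is a scalar
  obtain ⟨e', hp⟩ := exists_hypPair hR he₀ he0'
  have hsc : ∀ x, h.1 (h.1 x) = x := by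
    obtain ⟨z, hz⟩ : ∃ z : (polB R).orthogonal (Submodule.span K {e₀, e'}), R z.1 ≠ 0 := by
      have hnd := hp.restrict_nondeg hR
      have hd1 := finrank_orth_pair hR e₀ e'
      haveI := Module.nontrivial_of_finrank_pos (R := K)
        (M := (polB R).orthogonal (Submodule.span K {e₀, e'})) (by omega)
      by_contra hno'
      push Not at hno'
      obtain ⟨y, hy⟩ := exists_ne (0 : (polB R).orthogonal (Submodule.span K {e₀, e'}))
      refine hy (eq_zero_of_polB_eq_zero hnd fun y' => ?_)
      rw [polB_apply, QuadraticMap.polar]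
      simp only [QuadraticMap.restrict_apply, hno', sub_self]
    obtain ⟨hze, hze'⟩ := mem_orth_pair.1 z.2
    set d := R z.1
    set s := -d • e₀ + e' + z.1 with hs
    have hRs : R s = 0 := by
      simp [hs, qmap_add, qmap_smul, map_add, map_smul, he₀, hp.right, hp.pair, hze, hze', d]
    have hBs : polB R s e₀ = 1 := by
      simp [hs, map_add, map_smul, polB_self, he₀, hp.symm.pair, polB_comm z.1 e₀, hze]
    have hs0 : s ≠ 0 := fun e => by rw [e] at hBs; simp at hBs
    obtain ⟨l, hl⟩ := Submodule.mem_span_singleton.1 (hfix e₀ he₀ he0')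
    obtain ⟨l', hl'⟩ := Submodule.mem_span_singleton.1 (hfix e' hp.right hp.symm.left_ne_zero)
    obtain ⟨t, ht⟩ := Submodule.mem_span_singleton.1 (hfix s hRs hs0)
    have hll : l * l' = 1 := by
      have := orth_polB_map h e₀ e'
      rw [← hl, ← hl', map_smul, map_smul, LinearMap.smul_apply, hp.pair] at this
      simpa [mul_comm] using this
    have hhz : h.1 z.1 = t • s + (d * l) • e₀ - l' • e' := by
      have e : z.1 = s + d • e₀ - e' := by rw [hs]; module
      conv_lhs => rw [e]
      rw [map_sub, map_add, map_smul, ← hl, ← hl', ← ht, smul_smul]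
    have q0 : polB R (h.1 z.1) (h.1 e₀) = 0 := by rw [orth_polB_map, polB_comm]; exact hze
    have q1 : polB R (h.1 z.1) (h.1 e') = 0 := by rw [orth_polB_map, polB_comm]; exact hze'
    have hBs' : polB R s e' = -d := by
      simp [hs, map_add, map_smul, polB_self, hp.right, hp.pair, polB_comm z.1 e', hze']
    rw [hhz, ← hl] at q0
    rw [hhz, ← hl'] at q1
    simp [map_add, map_sub, map_smul, hBs, polB_self, he₀, hp.symm.pair] at q0
    simp [map_add, map_sub, map_smul, hBs', polB_self, hp.right, hp.pair] at q1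
    have hl0 : l ≠ 0 := left_ne_zero_of_mul_eq_one hll
    have hl'0 : l' ≠ 0 := right_ne_zero_of_mul_eq_one hll
    have e1 : t = l' := sub_eq_zero.1 (q0.resolve_left hl0)
    have e2 : l = t := by
      refine mul_right_cancel₀ hz ?_
      have := q1.resolve_left hl'0
      linear_combination this
    have hz' : h.1 z.1 = t • z.1 := by
      rw [hhz, e2, ← e1, hs]; module
    have htt : t * t = 1 := by rw [← hll, e2, ← e1]
    intro x
    have hx : x ∈ Submodule.span K (Set.range ![e₀, e', z.1]) := by
      have hli : LinearIndependent K ![e₀, e', z.1] := by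
        rw [Fintype.linearIndependent_iff]
        intro g hg
        simp [Fin.sum_univ_three] at hg
        have q0' := congrArg (fun y => polB R e₀ y) hg
        have q1' := congrArg (fun y => polB R e' y) hg
        have q2' := congrArg (fun y => polB R z.1 y) hg
        simp [polB_self, he₀, hp.pair, hp.symm.pair, hp.right, hze, hze', polB_comm z.1 e₀,
          polB_comm z.1 e', h2, hz, d] at q0' q1' q2'
        intro i
        fin_cases i <;> simp [q0', q1', q2']
      have htop := hli.span_eq_top_of_card_eq_finrank' (by simp [hd])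
      exact htop ▸ Submodule.mem_top
    induction hx using Submodule.span_induction with
    | mem v hv =>
      obtain ⟨i, rfl⟩ := hv
      fin_cases i
      · show h.1 (h.1 e₀) = e₀
        rw [← hl, map_smul, ← hl, smul_smul, e2, htt, one_smul]
      · show h.1 (h.1 e') = e'
        rw [← hl', map_smul, ← hl', smul_smul, ← e1, htt, one_smul]
      · show h.1 (h.1 z.1) = z.1
        rw [hz', map_smul, hz', smul_smul, htt, one_smul]
    | zero => simp
    | add p q _ _ hp hq => rw [map_add, map_add, hp, hq]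
    | smul r p _ hp => rw [map_smul, map_smul, hp]
  have hd2 : orderOf (⟨h, hh⟩ : H) ∣ 2 := orderOf_dvd_of_pow_eq_one (Subtype.ext (by
    rw [SubmonoidClass.coe_pow, pow_two]
    exact orth_ext fun x => by rw [orth_mul_apply, hsc, OneMemClass.coe_one, orth_one_apply]))
  rcases (Nat.dvd_prime Nat.prime_two).1 hd2 with e | e
  · exact congrArg Subtype.val (orderOf_eq_one_iff.1 e)
  · exact absurd (e ▸ orderOf_dvd_natCard (⟨h, hh⟩ : H)) hHo.not_two_dvd_nat

end Action

end Bal

end H43
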