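import Cfsg.Agent.H43.Bal.Abstract
import Cfsg.Agent.H10.Basic
import Mathlib

/-!
# An involution whose centraliser has trivial odd core
-/

set_option autoImplicit false
set_option maxHeartbeats 400000

namespace H43

namespace Bal

variable {G : Type*} [Group G]

theorem odd_core {H : Type*} [Group H] [Finite H] : Odd (Nat.card (Cfsg.pPrimeCore 2 H)) :=
  Nat.coprime_two_right.1 H10.pPrimeCore_coprime

theorem odd_of_dvd {a b : ℕ} (hb : Odd b) (h : a ∣ b) : Odd a := by
  rcases Nat.even_or_odd a with ha | ha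
  · exact absurd (dvd_trans ha.two_dvd h) hb.not_two_dvd_nat
  · exact ha

theorem odd_map {H K : Type*} [Group H] [Group K] (f : H →* K) {L : Subgroup H}
    (hL : Odd (Nat.card L)) : Odd (Nat.card (L.map f)) := odd_of_dvd hL (Subgroup.card_map_dvd (f := f) (H := L))

theorem core_map_subtype_conj {H : Type*} [Group H] [Finite H] (C : Subgroup H) (e : C ≃* C)
    {k : C} (hk : k ∈ Cfsg.pPrimeCore 2 C) : e k ∈ Cfsg.pPrimeCore 2 C := by
  rw [← H10.map_pPrimeCore_equiv e]
  exact ⟨k, hk, rfl⟩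

theorem centralizer_core_eq_bot [Finite G] (hinj : Function.Injective (MulAut.conj : G → MulAut G))
    (x : MulAut G) (A : Subgroup (MulAut G)) (hinn : ∀ k, MulAut.conj k ∈ A)
    (hP : ∀ P : Subgroup (MulAut G), Odd (Nat.card P) →
      (∀ y ∈ P, y * x = x * y) →
      (∀ d, d * x = x * d → ∀ y ∈ P, d * y * d⁻¹ ∈ P) → ∀ y ∈ P, y = 1)
    (hN : ∀ y, y * x = x * y → Odd (orderOf y) →
      (∀ k, x k = k → y * MulAut.conj k = MulAut.conj k * y) → y = 1) :
    Cfsg.pPrimeCore 2 ↥(A ⊓ Subgroup.centralizer ({x} : Set (MulAut G))) = ⊥ := by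
  classical
  haveI : Finite (MulAut G) := Finite.of_injective (fun α => (α : G → G)) DFunLike.coe_injective
  set C := MonoidHom.eqLocus x.toMonoidHom (MonoidHom.id G)
  have hmem : ∀ y, y ∈ C ↔ x y = y := fun y => Iff.rfl
  set D := A ⊓ Subgroup.centralizer ({x} : Set (MulAut G))
  have hconjC : ∀ k ∈ C, MulAut.conj k * x = x * MulAut.conj k := fun k hk =>
    Subgroup.mem_centralizer_singleton_iff.1 ((conj_mem_centralizer hinj k).2 hk)
  have hCD : ∀ k ∈ C, MulAut.conj k ∈ D := fun k hk => ⟨hinn k, (conj_mem_centralizer hinj k).2 hk⟩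
  have hdC : ∀ d : MulAut G, d * x = x * d → ∀ k, k ∈ C → d k ∈ C := by
    intro d hd k hk
    rw [hmem] at hk ⊢
    calc x (d k) = (x * d) k := rfl
      _ = (d * x) k := by rw [hd]
      _ = d k := by rw [MulAut.mul_apply, hk]
  -- the core of the centraliser in `G` is trivial
  set O := (Cfsg.pPrimeCore 2 C).map C.subtype
  have hOC : Cfsg.pPrimeCore 2 C = ⊥ := by
    have h1 := hP (O.map MulAut.conj) (odd_map _ (odd_map _ odd_core))
      (by rintro _ ⟨_, ⟨k, -, rfl⟩, rfl⟩; exact hconjC _ k.2)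
      (by
        rintro d hd _ ⟨_, ⟨k, hk, rfl⟩, rfl⟩
        have hd' : d⁻¹ * x = x * d⁻¹ := by
          calc d⁻¹ * x = d⁻¹ * (x * d) * d⁻¹ := by group
            _ = d⁻¹ * (d * x) * d⁻¹ := by rw [hd]
            _ = x * d⁻¹ := by group
        let e : C ≃* C :=
          { toFun := fun k => ⟨d k, hdC d hd k k.2⟩
            invFun := fun k => ⟨d⁻¹ k, hdC _ hd' k k.2⟩
            left_inv := fun k => Subtype.ext (d.symm_apply_apply k)
            right_inv := fun k => Subtype.ext (d.apply_symm_apply k)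
            map_mul' := fun k l => Subtype.ext (map_mul d (k : G) l) }
        exact ⟨d k, ⟨e k, core_map_subtype_conj C e hk, rfl⟩, (aut_conj d _).symm⟩)
    rw [Subgroup.eq_bot_iff_forall]
    intro k hk
    exact Subtype.ext (hinj ((h1 _ ⟨k, ⟨k, hk, rfl⟩, rfl⟩).trans (map_one MulAut.conj).symm))
  set N := (Cfsg.pPrimeCore 2 D).map D.subtype
  have hNo : Odd (Nat.card N) := odd_map _ odd_core
  have hNconj : ∀ d ∈ D, ∀ y ∈ N, d * y * d⁻¹ ∈ N := by
    rintro d hd _ ⟨y, hy, rfl⟩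
    exact ⟨⟨d, hd⟩ * y * ⟨d, hd⟩⁻¹, H10.pPrimeCore_normal.conj_mem _ hy _, rfl⟩
  set M := (N.comap (MulAut.conj : G →* MulAut G)).subgroupOf C
  have hMn : M.Normal := ⟨fun m hm k => by
    show MulAut.conj ((k : G) * m * (k : G)⁻¹) ∈ N
    rw [map_mul, map_mul, map_inv]
    exact hNconj _ (hCD k k.2) _ hm⟩
  have hMle : M ≤ Cfsg.pPrimeCore 2 C := H10.le_pPrimeCore hMn (by
    refine Nat.coprime_two_right.2 (odd_of_dvd hNo ?_)
    rw [Nat.card_congr (Subgroup.equivMapOfInjective M ((MulAut.conj : G →* MulAut G).comp C.subtype)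
      (hinj.comp C.subtype_injective)).toEquiv]
    refine Subgroup.card_dvd_of_le ?_
    rintro _ ⟨m, hm, rfl⟩
    exact hm)
  rw [Subgroup.eq_bot_iff_forall]
  intro y hy
  have hyN : (y : MulAut G) ∈ N := ⟨y, hy, rfl⟩
  have hyx := Subgroup.mem_centralizer_singleton_iff.1 y.2.2
  apply Subtype.ext
  refine hN _ hyx ?_ fun k hk => ?_
  · exact odd_of_dvd hNo ((Subgroup.orderOf_mk _ hyN) ▸ orderOf_dvd_natCard (⟨_, hyN⟩ : N))
  have hk' : k ∈ C := hk
  have h1 : (y : MulAut G) k * k⁻¹ ∈ C := C.mul_mem (hdC _ hyx k hk') (C.inv_mem hk')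
  have h2 : (⟨_, h1⟩ : C) ∈ M := by
    show MulAut.conj ((y : MulAut G) k * k⁻¹) ∈ N
    rw [map_mul, map_inv, ← aut_conj, show (y : MulAut G) * MulAut.conj k * (y : MulAut G)⁻¹ *
      (MulAut.conj k)⁻¹ = (y : MulAut G) * (MulAut.conj k * (y : MulAut G)⁻¹ * (MulAut.conj k)⁻¹) by group]
    exact N.mul_mem hyN (hNconj _ (hCD k hk') _ (N.inv_mem hyN))
  have h3 := hMle h2
  rw [hOC, Subgroup.mem_bot] at h3
  rw [← mul_inv_eq_iff_eq_mul, aut_conj, mul_inv_eq_one.1 (congrArg Subtype.val h3)]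

end Bal

end H43
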