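import Cfsg.Agent.H43.Bal.GraphBase
import Cfsg.Agent.H43.Bal.GraphCore
import Mathlib.Algebra.QuadraticAlgebra.Basic
import Mathlib

/-!
# Graph involutions without eigenvectors
-/

set_option autoImplicit false

namespace H43

namespace Bal

open Matrix H44

variable {F : Type*} [Field F] [Finite F] {ι : Type} [Fintype ι] [DecidableEq ι]
  {Q : QuadraticForm F (ι → F)} {n : ℕ}

/-- the involution has no eigenvector -/
class NonSplit (D : GData Q n) : Prop where
  ns : ¬ IsSquare (D.c : F)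

namespace GData

/-- the quadratic extension spanned by the linear map -/
abbrev Ext2 (D : GData Q n) : Type _ := QuadraticAlgebra F (D.c : F) 0

variable (D : GData Q n)

instance factExt [NonSplit D] : Fact (∀ r : F, r ^ 2 ≠ (D.c : F) + 0 * r) :=
  ⟨fun r hr => (NonSplit.ns (D := D)) ⟨r, by rw [← pow_two, hr, zero_mul, add_zero]⟩⟩

instance finiteExt : Finite (Ext2 D) := Finite.of_equiv _ (QuadraticAlgebra.equivProd _ _).symm

/-- the space as a module over the extension -/
def Sp2 (_D : GData Q n) : Type _ := ι → F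

instance sp2Group : AddCommGroup (Sp2 D) := inferInstanceAs (AddCommGroup (ι → F))

instance sp2Module : Module F (Sp2 D) := inferInstanceAs (Module F (ι → F))

instance sp2Finite : Module.Finite F (Sp2 D) := inferInstanceAs (Module.Finite F (ι → F))

/-- coordinates -/
def toFun2 : Sp2 D ≃ₗ[F] (ι → F) := LinearEquiv.refl F (ι → F)

/-- the linear map on the synonym -/
noncomputable def L2 : Sp2 D →ₗ[F] Sp2 D :=
  (D.toFun2.symm.toLinearMap.comp D.L).comp D.toFun2.toLinearMap

theorem L2_sq (v : Sp2 D) : D.L2 (D.L2 v) = (D.c : F) • v := D.L_sq v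

noncomputable instance sp2SMul : SMul (Ext2 D) (Sp2 D) := ⟨fun e v => e.re • v + e.im • D.L2 v⟩

theorem ext_smul_def (e : Ext2 D) (v : Sp2 D) : e • v = e.re • v + e.im • D.L2 v := rfl

noncomputable instance sp2ExtModule : Module (Ext2 D) (Sp2 D) where
  one_smul v := by
    show (1 : F) • v + (0 : F) • D.L2 v = v
    simp
  mul_smul e f v := by
    simp only [ext_smul_def, map_add, map_smul, D.L2_sq, QuadraticAlgebra.re_mul, QuadraticAlgebra.im_mul]
    module
  smul_zero e := by simp [ext_smul_def]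
  smul_add e v w := by simp only [ext_smul_def, map_add, smul_add]; abel
  add_smul e f v := by simp only [ext_smul_def, QuadraticAlgebra.re_add, QuadraticAlgebra.im_add]; module
  zero_smul v := by simp [ext_smul_def]

instance sp2Tower : IsScalarTower F (Ext2 D) (Sp2 D) where
  smul_assoc a e v := by
    simp only [ext_smul_def, QuadraticAlgebra.re_smul, QuadraticAlgebra.im_smul, smul_eq_mul]
    module

instance sp2FiniteExt : Module.Finite (Ext2 D) (Sp2 D) := Module.Finite.of_restrictScalars_finite F _ _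

variable [NonSplit D]

theorem two_ne_ext : (2 : Ext2 D) ≠ 0 := fun e =>
  D.h.two ((QuadraticAlgebra.re_ofNat 2).symm.trans (congrArg QuadraticAlgebra.re e))

theorem adjoint2 (v w : Sp2 D) :
    polB Q (D.toFun2 (D.L2 v)) (D.toFun2 w) = polB Q (D.toFun2 v) (D.toFun2 (D.L2 w)) := D.adjoint v w

/-- half the bilinear form over the extension -/
noncomputable def halfBil : Sp2 D →ₗ[Ext2 D] Sp2 D →ₗ[Ext2 D] Ext2 D :=
  LinearMap.mk₂ (Ext2 D) (fun v w => ⟨2⁻¹ * polB Q (D.toFun2 v) (D.toFun2 w),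
      2⁻¹ * ((D.c : F)⁻¹ * polB Q (D.toFun2 (D.L2 v)) (D.toFun2 w))⟩)
    (fun a b w => by ext <;> simp <;> ring)
    (fun e a w => by
      ext <;> simp [ext_smul_def, D.L2_sq] <;> field_simp [D.c.ne_zero, D.h.two] <;> ring)
    (fun a b w => by ext <;> simp <;> ring)
    (fun e a w => by
      have hcc := D.adjoint2 (D.L2 a) w
      have hc := D.adjoint2 a w
      simp only [D.L2_sq, map_smul, LinearMap.smul_apply, smul_eq_mul] at hcc
      ext <;> simp [ext_smul_def, ← hc, ← hcc] <;> field_simp [D.c.ne_zero, D.h.two] <;> ring)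

/-- the quadratic form over the extension -/
noncomputable def form2 : QuadraticForm (Ext2 D) (Sp2 D) := LinearMap.BilinMap.toQuadraticMap D.halfBil

theorem form2_re (v : Sp2 D) : (D.form2 v).re = Q (D.toFun2 v) := by
  show 2⁻¹ * polB Q (D.toFun2 v) (D.toFun2 v) = _
  rw [polB_self, inv_mul_cancel_left₀ D.h.two]

theorem form2_im (v : Sp2 D) :
    (D.form2 v).im = 2⁻¹ * ((D.c : F)⁻¹ * polB Q (D.toFun2 (D.L2 v)) (D.toFun2 v)) := rfl

theorem polB_form2 (v w : Sp2 D) : polB D.form2 v w =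
    ⟨polB Q (D.toFun2 v) (D.toFun2 w), (D.c : F)⁻¹ * polB Q (D.toFun2 (D.L2 v)) (D.toFun2 w)⟩ := by
  have hc : polB Q (D.toFun2 (D.L2 w)) (D.toFun2 v) = polB Q (D.toFun2 (D.L2 v)) (D.toFun2 w) := by
    rw [polB_comm, D.adjoint2]
  rw [polB_apply, QuadraticMap.polar]
  have h2 := D.h.two
  ext
  · simp only [QuadraticAlgebra.re_sub, form2_re, map_add]
    rw [qmap_add]; ring
  · simp only [QuadraticAlgebra.im_sub, form2_im, map_add, LinearMap.add_apply, hc]
    field_simp
    ring

theorem form2_perp {v w : Sp2 D} : polB D.form2 v w = 0 ↔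
    polB Q (D.toFun2 v) (D.toFun2 w) = 0 ∧ polB Q (D.toFun2 (D.L2 v)) (D.toFun2 w) = 0 := by
  rw [polB_form2, QuadraticAlgebra.ext_iff]
  simp [D.c.ne_zero]

theorem form2_nondeg : (polB D.form2).Nondegenerate := by
  have key : ∀ x, (∀ y, polB D.form2 x y = 0) → x = 0 := fun x hx =>
    D.toFun2.map_eq_zero_iff.1 (eq_zero_of_polB_eq_zero D.h.nondeg fun y => by
      obtain ⟨y, rfl⟩ := D.toFun2.surjective y
      exact (D.form2_perp.1 (hx y)).1)
  exact ⟨key, fun y hy => key y fun x => by rw [polB_comm]; exact hy x⟩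

theorem finrank2 : Module.finrank (Ext2 D) (Sp2 D) = n := by
  have h1 := Module.finrank_mul_finrank F (Ext2 D) (Sp2 D)
  rw [QuadraticAlgebra.finrank_eq_two, show Module.finrank F (Sp2 D) = Module.finrank F (ι → F) from rfl,
    Module.finrank_fintype_fun_eq_card, D.h.card] at h1
  omega

include D in
theorem n_odd : Odd n := odd_of_invol_nonsquare D.h D.hη D.hg NonSplit.ns

/-- forgetting the extension -/
noncomputable def forget2 : orthGroup D.form2 →* orthGroup Q where
  toFun a := ⟨(D.toFun2.symm.trans (a.1.restrictScalars F)).trans D.toFun2, by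
    rw [mem_orthGroup]
    intro v
    show Q (D.toFun2 (a.1 (D.toFun2.symm v))) = _
    rw [← form2_re, orth_qmap, form2_re, LinearEquiv.apply_symm_apply]⟩
  map_one' := orth_ext fun v => rfl
  map_mul' a b := orth_ext fun v => rfl

theorem forget2_apply (a : orthGroup D.form2) (v : Sp2 D) :
    (D.forget2 a).1 (D.toFun2 v) = D.toFun2 (a.1 v) := rfl

theorem forget2_comm (a : orthGroup D.form2) (v : ι → F) :
    D.L ((D.forget2 a).1 v) = (D.forget2 a).1 (D.L v) := by
  obtain ⟨v, rfl⟩ := D.toFun2.surjective v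
  show D.toFun2 (D.L2 (a.1 v)) = D.toFun2 (a.1 (D.L2 v))
  congr 1
  have h1 := a.1.map_smul (⟨0, 1⟩ : Ext2 D) v
  simp only [ext_smul_def, zero_smul, zero_add, one_smul] at h1
  exact h1.symm

/-- the action of the orthogonal group over the extension -/
noncomputable def rho2 : orthGroup D.form2 →* MulAut (Cfsg.POmega F ⇑Q) := (oAut Q).comp D.forget2

theorem rho2_ker (a : orthGroup D.form2) (ha : D.rho2 a = 1) : a = 1 ∨ a = negOrth _ := by
  rcases oAut_ker D.h.nondeg D.h.five _ ha with e | e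
  · exact Or.inl (orth_ext fun v => congrArg (fun b : orthGroup Q => b.1 (D.toFun2 v)) e)
  · exact Or.inr (orth_ext fun v => congrArg (fun b : orthGroup Q => b.1 (D.toFun2 v)) e)

theorem rho2_commutator {a : orthGroup D.form2} (ha : a ∈ commutator (orthGroup D.form2)) :
    D.forget2 a ∈ commutator (orthGroup Q) := by
  have h : (commutator (orthGroup D.form2)).map D.forget2 ≤ commutator (orthGroup Q) := by
    rw [commutator_def, commutator_def, Subgroup.map_commutator]
    exact Subgroup.commutator_mono le_top le_top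
  exact h ⟨a, ha, rfl⟩

theorem smul_ne {e : Ext2 D} {v : Sp2 D} (he : e ≠ 0) (hv : v ≠ 0) : e • v ≠ 0 := smul_ne_zero he hv

/-- a reflection over the extension is a product of two reflections -/
theorem forget2_refl (a : Sp2 D) (f : Ext2 D) (hf : f.im ≠ 0) (ha : Q (D.toFun2 a) ≠ 0)
    (hb : Q (D.toFun2 (f • a)) ≠ 0) (hperp : polB Q (D.toFun2 a) (D.toFun2 (f • a)) = 0) :
    D.forget2 (refl D.form2 a) = refl Q (D.toFun2 a) * refl Q (D.toFun2 (f • a)) := by
  have hRa : D.form2 a ≠ 0 := fun e => ha (by rw [← form2_re, e, QuadraticAlgebra.re_zero])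
  have h2 := D.h.two
  refine orth_ext fun v => ?_
  obtain ⟨v, rfl⟩ := D.toFun2.surjective v
  set e := polB D.form2 v a * (2 * D.form2 a)⁻¹ with he
  set v' := v - e • a with hv'
  have hp : polB D.form2 v' a = 0 := by
    rw [hv', map_sub, LinearMap.sub_apply, map_smul, LinearMap.smul_apply, polB_self, smul_eq_mul, he, mul_assoc,
      inv_mul_cancel₀ (mul_ne_zero D.two_ne_ext hRa), mul_one, sub_self]
  have hpa : polB Q (D.toFun2 v') (D.toFun2 a) = 0 := (D.form2_perp.1 hp).1
  have hpb : polB Q (D.toFun2 v') (D.toFun2 (f • a)) = 0 :=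
    (D.form2_perp.1 (show polB D.form2 v' (f • a) = 0 by rw [map_smul, hp, smul_zero])).1
  have hfix : (refl D.form2 a).1 v' = v' := refl_fix hp
  have hneg : (refl D.form2 a).1 (e • a) = -(e • a) := by rw [map_smul, refl_self hRa, smul_neg]
  have hv : v = e • a + v' := by rw [hv']; abel
  rw [forget2_apply, hv, map_add, hfix, hneg, orth_mul_apply]
  obtain ⟨p, q, hpq⟩ : ∃ p q : F, D.toFun2 (e • a) = p • D.toFun2 a + q • D.toFun2 (f • a) := by
    refine ⟨e.re - e.im / f.im * f.re, e.im / f.im, ?_⟩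
    simp only [ext_smul_def, map_add, map_smul]
    match_scalars <;> field_simp <;> ring
  rw [map_add, map_add, map_neg, hpq]
  simp only [map_add, map_smul]
  rw [refl_fix hpb, refl_self hb, refl_fix hpa,
    show (refl Q (D.toFun2 (f • a))).1 (D.toFun2 a) = D.toFun2 a from refl_fix hperp]
  simp only [map_neg, map_add, map_smul]
  rw [refl_self ha, show (refl Q (D.toFun2 a)).1 (D.toFun2 (f • a)) = D.toFun2 (f • a) from
    refl_fix (by rw [polB_comm]; exact hperp)]
  module

/-- an orthogonal partner on the same line over the extension -/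
theorem exists_partner2 {a : Sp2 D} (ha : Q (D.toFun2 a) ≠ 0) :
    ∃ f : Ext2 D, f.im ≠ 0 ∧ Q (D.toFun2 (f • a)) ≠ 0 ∧
      polB Q (D.toFun2 a) (D.toFun2 (f • a)) = 0 := by
  have h2 := D.h.two
  have hc := D.c.ne_zero
  set B := polB Q (D.toFun2 (D.L2 a)) (D.toFun2 a)
  set f : Ext2 D := ⟨-(B * (2 * Q (D.toFun2 a))⁻¹), 1⟩ with hf
  have hRa : D.form2 a ≠ 0 := fun e => ha (by rw [← form2_re, e, QuadraticAlgebra.re_zero])
  have hB' : polB Q (D.toFun2 a) (D.toFun2 (D.L2 a)) = B := polB_comm _ _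
  have hL : Q (D.toFun2 (D.L2 a)) = (D.c : F) * Q (D.toFun2 a) := D.qmap_L _
  refine ⟨f, by simp [hf], ?_, ?_⟩
  · intro h0
    refine hRa (QuadraticAlgebra.norm_eq_zero_iff_eq_zero.1 ?_)
    simp only [hf, ext_smul_def, one_smul, map_add, map_smul] at h0
    rw [qmap_add, qmap_smul, hL, map_smul, LinearMap.smul_apply, hB', smul_eq_mul] at h0
    rw [QuadraticAlgebra.norm_def, form2_re, form2_im]
    field_simp at h0 ⊢
    linear_combination h0
  · simp only [hf, ext_smul_def, one_smul, map_add, map_smul, polB_self, hB', smul_eq_mul]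
    field_simp
    ring

/-- every non-singular vector over the extension has a good representative -/
theorem exists_rep2 {u : Sp2 D} (hu : D.form2 u ≠ 0) :
    ∃ (e f : Ext2 D), e ≠ 0 ∧ f.im ≠ 0 ∧ Q (D.toFun2 (e • u)) ≠ 0 ∧ Q (D.toFun2 (f • e • u)) ≠ 0 ∧
      polB Q (D.toFun2 (e • u)) (D.toFun2 (f • e • u)) = 0 := by
  have h2 := D.h.two
  have hc := D.c.ne_zero
  obtain ⟨e, he, ha⟩ : ∃ e : Ext2 D, e ≠ 0 ∧ Q (D.toFun2 (e • u)) ≠ 0 := by
    by_cases h : Q (D.toFun2 u) = 0
    swap
    · exact ⟨1, one_ne_zero, by rwa [one_smul]⟩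
    refine ⟨⟨1, 1⟩, fun e => one_ne_zero (congrArg QuadraticAlgebra.re e), fun h1 => hu ?_⟩
    ext
    · rw [form2_re, h]; rfl
    · have hL : Q (D.toFun2 (D.L2 u)) = (D.c : F) * Q (D.toFun2 u) := D.qmap_L _
      simp only [ext_smul_def, one_smul, map_add] at h1
      rw [qmap_add, hL, h, mul_zero, zero_add, zero_add, polB_comm] at h1
      rw [form2_im, h1, mul_zero, mul_zero]
      rfl
  obtain ⟨f, hf, hb, hperp⟩ := D.exists_partner2 ha
  exact ⟨e, f, he, hf, ha, hb, hperp⟩

variable {y : MulAut (Cfsg.POmega F ⇑Q)}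

/-- the map on the synonym -/
def map2 (S : Rep Q y) : Sp2 D →+ Sp2 D :=
  (D.toFun2.symm.toLinearMap.toAddMonoidHom.comp S.map).comp D.toFun2.toLinearMap.toAddMonoidHom

theorem map2_apply (S : Rep Q y) (v : Sp2 D) : D.toFun2 (D.map2 S v) = S.map (D.toFun2 v) := rfl

theorem map2_smul (S : Rep Q y) {l : F} (hl : ∀ v, S.map (D.L v) = l • D.L (S.map v)) (e : Ext2 D)
    (v : Sp2 D) : D.map2 S (e • v) = (⟨S.field e.re, S.field e.im * l⟩ : Ext2 D) • D.map2 S v := by
  apply D.toFun2.injective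
  rw [map2_apply]
  show S.map (D.toFun2 (e.re • v + e.im • D.L2 v)) = D.toFun2 (_ • D.map2 S v + _ • D.L2 (D.map2 S v))
  simp only [map_add, map_smul, S.smul, map2_apply]
  rw [show D.toFun2 (D.L2 v) = D.L (D.toFun2 v) from rfl, hl, smul_smul]
  rfl

/-- reflections over the extension move as the vectors do -/
theorem conj_rho2 (hy : y * D.x = D.x * y) (S : Rep Q y) {u : Sp2 D} (hu : D.form2 u ≠ 0) :
    D.form2 (D.map2 S u) ≠ 0 ∧
      y * D.rho2 (refl D.form2 u) * y⁻¹ = D.rho2 (refl D.form2 (D.map2 S u)) := by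
  obtain ⟨l, hl0, hl⟩ := D.exists_twist hy S
  obtain ⟨e, f, he, hf, ha, hb, hperp⟩ := D.exists_rep2 hu
  set e' : Ext2 D := ⟨S.field e.re, S.field e.im * l⟩ with he'
  set f' : Ext2 D := ⟨S.field f.re, S.field f.im * l⟩ with hf'
  have he0 : e' ≠ 0 := fun h => he (by
    ext
    · simpa [he'] using congrArg QuadraticAlgebra.re h
    · simpa [he', hl0] using congrArg QuadraticAlgebra.im h)
  have hfi : f'.im ≠ 0 := mul_ne_zero ((map_ne_zero S.field.toRingHom).2 hf) hl0
  have hSa : D.map2 S (e • u) = e' • D.map2 S u := D.map2_smul S hl e u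
  have hSb : D.map2 S (f • e • u) = f' • D.map2 S (e • u) := D.map2_smul S hl f _
  have ha' : Q (D.toFun2 (D.map2 S (e • u))) ≠ 0 := S.qmap_ne ha
  have hb' : Q (D.toFun2 (f' • D.map2 S (e • u))) ≠ 0 := by rw [← hSb]; exact S.qmap_ne hb
  have hperp' : polB Q (D.toFun2 (D.map2 S (e • u))) (D.toFun2 (f' • D.map2 S (e • u))) = 0 := by
    rw [← hSb, map2_apply, map2_apply, S.polB_map, hperp, map_zero, mul_zero]
  refine ⟨fun h => ?_, ?_⟩
  · refine ha' ?_
    rw [← form2_re, hSa, qmap_smul, h, mul_zero, QuadraticAlgebra.re_zero]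
  rw [← refl_smul (Q := D.form2) u he, ← refl_smul (Q := D.form2) (D.map2 S u) he0, ← hSa, rho2,
    MonoidHom.comp_apply, MonoidHom.comp_apply, D.forget2_refl _ f hf ha hb hperp,
    D.forget2_refl _ f' hfi ha' hb' hperp', map_mul, map_mul, ← hSb, map2_apply, map2_apply,
    ← S.conj _ ha, ← S.conj _ hb]
  group

/-- fixed non-singular lines over the extension make an odd element trivial -/
theorem eq_one_of_lines2 (hodd : Odd (orderOf y)) (S : Rep Q y)
    (hlines : ∀ u, D.form2 u ≠ 0 → ∃ l : Ext2 D, D.map2 S u = l • u) : y = 1 := by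
  have hn : 3 ≤ Module.finrank (Ext2 D) (Sp2 D) := by rw [D.finrank2]; have := D.four; omega
  obtain ⟨e, he⟩ := exists_scalar_of_lines D.form2_nondeg D.two_ne_ext hn (D.map2 S) hlines
  have hS : ∀ v, S.map v = e.re • v + e.im • D.L v := fun v => congrArg D.toFun2 (he (D.toFun2.symm v))
  obtain ⟨u, hu, hperp⟩ := exists_orth_image D.h D.hg D.mu NonSplit.ns
  rw [← D.L_apply] at hperp
  have hfield : ∀ b, S.field b = b := by
    intro b
    have h1 := S.smul b u
    rw [hS, map_smul, smul_comm e.re, smul_comm e.im, ← smul_add, ← hS] at h1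
    have hne : S.map u ≠ 0 := fun h => S.qmap_ne hu (by rw [h, map_zero])
    exact (smul_left_injective F hne h1).symm
  have hq : ∀ v, (e.re * e.re + (D.c : F) * (e.im * e.im)) * Q v + e.re * e.im * polB Q v (D.L v) =
      (S.mult : F) * Q v := by
    intro v
    have h1 := S.qmap v
    rw [hS, hfield, qmap_add, qmap_smul, qmap_smul, D.qmap_L] at h1
    simp only [map_smul, LinearMap.smul_apply, smul_eq_mul] at h1
    linear_combination h1
  have hμ := hq u
  rw [hperp, mul_zero, add_zero] at hμ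
  have hzero : ∀ v, e.re * e.im * polB Q v (D.L v) = 0 := fun v => by
    have := hq v
    rw [mul_right_cancel₀ hu hμ] at this
    linear_combination this
  refine D.eq_one_of_odd hodd S ?_
  by_cases hp : e.re = 0
  · exact Or.inr ⟨e.im, fun v => by rw [hS, hp, zero_smul, zero_add]⟩
  by_cases hq0 : e.im = 0
  · exact Or.inl ⟨e.re, fun v => by rw [hS, hq0, zero_smul, add_zero]⟩
  exfalso
  have hz : ∀ v, polB Q v (D.L v) = 0 := fun v =>
    (mul_eq_zero.1 (hzero v)).resolve_left (mul_ne_zero hp hq0)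
  have h2 : ∀ v w, polB Q w (D.L v) = 0 := by
    intro v w
    have := hz (v + w)
    simp only [map_add, LinearMap.add_apply, hz] at this
    rw [show polB Q v (D.L w) = polB Q w (D.L v) by rw [← D.adjoint, polB_comm]] at this
    exact (mul_eq_zero.1 (show (2 : F) * polB Q w (D.L v) = 0 by linear_combination this)).resolve_left D.h.two
  have hL : ∀ v, D.L v = 0 := fun v => eq_zero_of_polB_eq_zero D.h.nondeg fun w => by rw [polB_comm]; exact h2 v w
  have := D.L_sq u
  rw [hL] at this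
  exact hu (by rw [(smul_eq_zero.1 this.symm).resolve_left D.c.ne_zero, map_zero])

/-- **the odd core is trivial, non-split case** -/
theorem core_eq_bot_twist (hall : ∀ y : MulAut (Cfsg.POmega F ⇑Q), Nonempty (Rep Q y))
    (A : Subgroup (MulAut (Cfsg.POmega F ⇑Q))) (hinn : ∀ k, MulAut.conj k ∈ A) :
    Cfsg.pPrimeCore 2 ↥(A ⊓ Subgroup.centralizer ({D.x} : Set (MulAut (Cfsg.POmega F ⇑Q)))) = ⊥ := by
  classical
  haveI : Finite (ι → F) := inferInstance
  haveI : Finite (Cfsg.POmega F ⇑Q) := inferInstance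
  haveI : Finite (MulAut (Cfsg.POmega F ⇑Q)) :=
    Finite.of_injective (fun α => (α : Cfsg.POmega F ⇑Q → Cfsg.POmega F ⇑Q)) DFunLike.coe_injective
  have hd : 4 ≤ Module.finrank (Ext2 D) (Sp2 D) := by rw [D.finrank2]; exact D.four
  have hodd : Odd (Module.finrank (Ext2 D) (Sp2 D)) := by rw [D.finrank2]; exact D.n_odd
  refine centralizer_core_eq_bot (conj_inj D.h.nondeg D.h.five) D.x A hinn ?_ ?_
  · intro P hPo hPc hPn y hy
    have hoy : Odd (orderOf y) :=
      odd_of_dvd hPo ((Subgroup.orderOf_mk _ hy) ▸ orderOf_dvd_natCard (⟨_, hy⟩ : P))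
    obtain ⟨S⟩ := hall y
    refine D.eq_one_of_lines2 hoy S fun u hu => ?_
    obtain ⟨hw, hconj⟩ := D.conj_rho2 (hPc y hy) S hu
    have hnorm : ∀ a, ∀ m ∈ P, D.rho2 a * m * (D.rho2 a)⁻¹ ∈ P := fun a m hm =>
      hPn _ (D.oAut_comm (D.forget2_comm a)) m hm
    have hm : D.rho2 (refl D.form2 (D.map2 S u) * refl D.form2 u) ∈ P := by
      rw [map_mul, ← hconj, show y * D.rho2 (refl D.form2 u) * y⁻¹ * D.rho2 (refl D.form2 u) =
        y * (D.rho2 (refl D.form2 u) * y⁻¹ * (D.rho2 (refl D.form2 u))⁻¹) by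
        rw [show (D.rho2 (refl D.form2 u))⁻¹ = D.rho2 (refl D.form2 u) by rw [← map_inv, refl_inv]]
        group]
      exact P.mul_mem hy (hnorm _ _ (P.inv_mem hy))
    obtain ⟨l, hl⟩ := Submodule.mem_span_singleton.1
      (near_eq D.rho2_ker D.form2_nondeg D.two_ne_ext hd hodd P hPo hnorm hw hu hm)
    have hl0 : l ≠ 0 := fun e => hu (by rw [← hl, e, zero_smul, map_zero])
    exact ⟨l⁻¹, (eq_inv_smul_iff₀ hl0).2 hl⟩
  · intro y hyx hoy hcen
    obtain ⟨S⟩ := hall y
    refine D.eq_one_of_lines2 hoy S fun u hu => ?_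
    obtain ⟨l, -, hl⟩ := D.exists_twist hyx S
    refine line_of_pairs (ρ := D.rho2) D.rho2_ker D.form2_nondeg D.two_ne_ext hd hodd (D.map2 S)
      (fun v hv => (D.conj_rho2 hyx S hv).1) (fun v w hvw => ?_) (fun v w hv hvw _ => ?_) hu
    · obtain ⟨h1, h2⟩ := D.form2_perp.1 hvw
      refine D.form2_perp.2 ⟨?_, ?_⟩
      · rw [map2_apply, map2_apply, S.polB_map, h1, map_zero, mul_zero]
      · have hl' : l • D.L (S.map (D.toFun2 v)) = S.map (D.L (D.toFun2 v)) := (hl _).symm
        have h3 : l * polB Q (D.L (S.map (D.toFun2 v))) (S.map (D.toFun2 w)) = 0 := by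
          rw [← smul_eq_mul, ← LinearMap.smul_apply, ← map_smul, hl', S.polB_map,
            show polB Q (D.L (D.toFun2 v)) (D.toFun2 w) = 0 from h2, map_zero, mul_zero]
        refine (mul_eq_zero.1 h3).resolve_left fun h0 => ?_
        obtain ⟨z, hz⟩ := D.h.exists_ne
        have h4 := hl z
        rw [h0, zero_smul] at h4
        refine S.qmap_ne (u := D.L z) ?_ (by rw [h4, map_zero])
        rw [D.qmap_L]; exact mul_ne_zero D.c.ne_zero hz
    · have hw : D.form2 w ≠ 0 := hvw ▸ hv
      have hgen : ReflGenerates (Ext2 D) (Sp2 D) := reflGenerates_of_two_ne_zero D.two_ne_ext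
      have hc := refl_mul_refl_mem_commutator D.form2_nondeg hgen (by omega) hv hw (by rw [hvw])
      have h1 : y * D.rho2 (refl D.form2 v * refl D.form2 w) * y⁻¹ = D.rho2 (refl D.form2 v * refl D.form2 w) :=
        D.commute_oAut hcen (D.rho2_commutator hc) (D.forget2_comm _)
      conv_rhs => rw [← h1]
      rw [map_mul, map_mul, show y * (D.rho2 (refl D.form2 v) * D.rho2 (refl D.form2 w)) * y⁻¹ =
        (y * D.rho2 (refl D.form2 v) * y⁻¹) * (y * D.rho2 (refl D.form2 w) * y⁻¹) by group,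
        (D.conj_rho2 hyx S hv).2, (D.conj_rho2 hyx S hw).2]

end GData

end Bal

end H43
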