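import Cfsg.Agent.H43.Bal.GraphSplit
import Cfsg.Agent.H43.Bal.GraphTwist
import Mathlib

/-!
# The odd core of the centraliser of a graph involution
-/

set_option autoImplicit false

namespace H43

namespace Bal

open Matrix H44

variable {F : Type*} [Field F] [Finite F] {ι : Type} [Fintype ι] [DecidableEq ι]
  {Q : QuadraticForm F (ι → F)} {n : ℕ}

/-- **no odd core at a graph involution** -/
theorem graph_core_eq_bot (h : EvenQ Q n) (h4 : 4 ≤ n)
    (hall : ∀ α : MulAut (Cfsg.POmega F ⇑Q), ∃ (g : GL ι F) (τ : F ≃+* F),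
      Cfsg.IsSemisimilarityPair ⇑Q g τ ∧ Cfsg.IsInducedBySemilinearPOmega ⇑Q g τ α)
    (g : simG Q) (hη : etaHom h g = -1) (hsq : simAut Q g * simAut Q g = 1)
    (A : Subgroup (MulAut (Cfsg.POmega F ⇑Q))) (hinn : ∀ k, MulAut.conj k ∈ A) :
    Cfsg.pPrimeCore 2 ↥(A ⊓ Subgroup.centralizer ({simAut Q g} : Set (MulAut (Cfsg.POmega F ⇑Q)))) = ⊥ := by
  rw [← map_mul] at hsq
  obtain ⟨c, hc⟩ := (simAut_eq_one_iff h.nondeg h.five _).1 hsq
  let D : GData Q n := ⟨h, h4, g, c, hη, hc⟩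
  have hrep : ∀ y : MulAut (Cfsg.POmega F ⇑Q), Nonempty (Rep Q y) := fun y => by
    obtain ⟨b, τ, hp, hi⟩ := hall y
    exact exists_rep h.nondeg hp hi
  show Cfsg.pPrimeCore 2 ↥(A ⊓ Subgroup.centralizer ({D.x} : Set (MulAut (Cfsg.POmega F ⇑Q)))) = ⊥
  by_cases hs : IsSquare (c : F)
  · obtain ⟨s, hs⟩ := hs
    exact D.core_eq_bot_split hrep hs.symm A hinn
  · haveI : NonSplit D := ⟨hs⟩
    exact D.core_eq_bot_twist hrep A hinn

end Bal

end H43
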