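import Cfsg.Agent.H43.Bal.GraphBase
import Cfsg.Agent.H43.Bal.GraphCore
import Mathlib

/-!
# Graph involutions with two eigenspaces
-/

set_option autoImplicit false

namespace H43

namespace Bal

open Matrix H44

variable {F : Type*} [Field F] [Finite F] {ι : Type} [Fintype ι] [DecidableEq ι]
  {Q : QuadraticForm F (ι → F)} {n : ℕ}

theorem conjEquiv_apply {P V : Type*} [AddCommGroup P] [Module F P] [AddCommGroup V] [Module F V]
    (e : P ≃ₗ[F] V) (f : P ≃ₗ[F] P) (p : P) : ((e.symm.trans f).trans e) (e p) = e (f p) := by simp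

namespace GData

variable (D : GData Q n) {t : F}

theorem t_ne (ht : t * t = (D.c : F)) : t ≠ 0 := fun e => D.c.ne_zero (by rw [← ht, e, mul_zero])

theorem eig_compl (ht : t * t = (D.c : F)) : IsCompl (eigSp D.g t) (eigSp D.g (-t)) :=
  isCompl_eig D.h.two D.hg ht

theorem eig_nd (ht : t * t = (D.c : F)) : (polB (Q.restrict (eigSp D.g t))).Nondegenerate :=
  eig_nondeg D.h (D.t_ne ht) (D.mu.trans ht.symm) (D.eig_compl ht)

theorem mem_eig {v : ι → F} : v ∈ eigSp D.g t ↔ D.L v = t • v := by rw [mem_eigSp, D.L_apply]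

theorem eig_perp (ht : t * t = (D.c : F)) {u w : ι → F} (hu : u ∈ eigSp D.g t) (hw : w ∈ eigSp D.g (-t)) :
    polB Q u w = 0 := eig_orth D.h (D.t_ne ht) (D.mu.trans ht.symm) hu hw

theorem eig_odd (ht : t * t = (D.c : F)) :
    Odd (Module.finrank F (eigSp D.g t)) ∧ Odd (Module.finrank F (eigSp D.g (-t))) := by
  have hsum := finrank_eig_add D.h (D.eig_compl ht)
  have hodd : Odd (Module.finrank F (eigSp D.g (-t))) := by
    by_contra hm
    have e := etaHom_val D.h D.g
    rw [det_eig (D.eig_compl ht), (Nat.not_odd_iff_even.1 hm).neg_pow, ← pow_add, hsum, D.mu, ← ht, ← pow_two,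
      ← pow_mul, div_self (pow_ne_zero _ (D.t_ne ht)), D.hη, Units.val_neg, Units.val_one] at e
    exact D.h.two (by linear_combination -e)
  refine ⟨?_, hodd⟩
  rw [Nat.odd_iff] at hodd ⊢
  omega

/-- extension of isometries of an eigenspace -/
noncomputable def ext (ht : t * t = (D.c : F)) : orthGroup (Q.restrict (eigSp D.g t)) →* orthGroup Q where
  toFun a := ⟨((Submodule.prodEquivOfIsCompl _ _ (D.eig_compl ht)).symm.trans
      (a.1.prodCongr (LinearEquiv.refl F _))).trans (Submodule.prodEquivOfIsCompl _ _ (D.eig_compl ht)), by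
    rw [mem_orthGroup]
    intro v
    obtain ⟨⟨u, w⟩, rfl⟩ := (Submodule.prodEquivOfIsCompl _ _ (D.eig_compl ht)).surjective v
    rw [LinearEquiv.trans_apply, LinearEquiv.trans_apply, LinearEquiv.symm_apply_apply]
    show Q (((a.1 u : eigSp D.g t) : ι → F) + (w : ι → F)) = Q ((u : ι → F) + (w : ι → F))
    rw [qmap_add, qmap_add, D.eig_perp ht (a.1 u).2 w.2, D.eig_perp ht u.2 w.2]
    congr 2
    exact orth_qmap a u⟩
  map_one' := orth_ext fun v => by
    obtain ⟨p, rfl⟩ := (Submodule.prodEquivOfIsCompl _ _ (D.eig_compl ht)).surjective v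
    exact conjEquiv_apply _ _ p
  map_mul' a b := orth_ext fun v => by
    obtain ⟨p, rfl⟩ := (Submodule.prodEquivOfIsCompl _ _ (D.eig_compl ht)).surjective v
    rw [orth_mul_apply]
    simp only [LinearEquiv.trans_apply, LinearEquiv.symm_apply_apply]
    rfl

theorem ext_apply (ht : t * t = (D.c : F)) (a : orthGroup (Q.restrict (eigSp D.g t))) (u : eigSp D.g t)
    (w : eigSp D.g (-t)) : (D.ext ht a).1 ((u : ι → F) + w) = ((a.1 u : eigSp D.g t) : ι → F) + w := by
  have e : (u : ι → F) + w = Submodule.prodEquivOfIsCompl _ _ (D.eig_compl ht) (u, w) := rfl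
  rw [e]
  exact conjEquiv_apply _ _ (u, w)

theorem eig_decomp (ht : t * t = (D.c : F)) (v : ι → F) :
    ∃ (u : eigSp D.g t) (w : eigSp D.g (-t)), v = (u : ι → F) + w := by
  obtain ⟨p, rfl⟩ := (Submodule.prodEquivOfIsCompl _ _ (D.eig_compl ht)).surjective v
  exact ⟨p.1, p.2, rfl⟩

theorem ext_refl (ht : t * t = (D.c : F)) (u : eigSp D.g t) :
    D.ext ht (refl (Q.restrict (eigSp D.g t)) u) = refl Q (u : ι → F) := by
  refine orth_ext fun v => ?_
  obtain ⟨p, w, rfl⟩ := D.eig_decomp ht v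
  rw [ext_apply, refl_apply, refl_apply, map_add, LinearMap.add_apply,
    show polB Q (w : ι → F) (u : ι → F) = 0 by rw [polB_comm]; exact D.eig_perp ht u.2 w.2, add_zero,
    polB_restrict, QuadraticMap.restrict_apply, Submodule.coe_sub, Submodule.coe_smul]
  abel

theorem ext_comm (ht : t * t = (D.c : F)) (a : orthGroup (Q.restrict (eigSp D.g t))) (v : ι → F) :
    D.L ((D.ext ht a).1 v) = (D.ext ht a).1 (D.L v) := by
  obtain ⟨u, w, rfl⟩ := D.eig_decomp ht v
  rw [ext_apply, map_add, map_add, D.mem_eig.1 (a.1 u).2, D.mem_eig.1 u.2, D.mem_eig.1 w.2]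
  rw [show t • (u : ι → F) + (-t) • (w : ι → F) =
    ((t • u : eigSp D.g t) : ι → F) + (((-t) • w : eigSp D.g (-t)) : ι → F) from rfl, ext_apply,
    map_smul]
  rfl

theorem ext_commutator (ht : t * t = (D.c : F)) {a : orthGroup (Q.restrict (eigSp D.g t))}
    (ha : a ∈ commutator (orthGroup (Q.restrict (eigSp D.g t)))) : D.ext ht a ∈ commutator (orthGroup Q) := by
  have h : (commutator (orthGroup (Q.restrict (eigSp D.g t)))).map (D.ext ht) ≤ commutator (orthGroup Q) := by
    rw [commutator_def, commutator_def, Subgroup.map_commutator]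
    exact Subgroup.commutator_mono le_top le_top
  exact h ⟨a, ha, rfl⟩

/-- the action of the isometries of an eigenspace -/
noncomputable def rho (ht : t * t = (D.c : F)) :
    orthGroup (Q.restrict (eigSp D.g t)) →* MulAut (Cfsg.POmega F ⇑Q) := (oAut Q).comp (D.ext ht)

theorem rho_refl (ht : t * t = (D.c : F)) (u : eigSp D.g t) :
    D.rho ht (refl (Q.restrict (eigSp D.g t)) u) = oAut Q (refl Q (u : ι → F)) := by
  rw [rho, MonoidHom.comp_apply, ext_refl]

theorem rho_injective (ht : t * t = (D.c : F)) : Function.Injective (D.rho ht) := by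
  rw [injective_iff_map_eq_one]
  intro a ha
  rcases oAut_ker D.h.nondeg D.h.five _ ha with e | e
  · refine orth_ext fun u => Subtype.ext ?_
    have h1 := congrArg (fun b : orthGroup Q => b.1 ((u : ι → F) + ((0 : eigSp D.g (-t)) : ι → F))) e
    replace h1 := (D.ext_apply ht a u 0).symm.trans h1
    simp only [orth_one_apply, ZeroMemClass.coe_zero, add_zero] at h1
    rw [h1, orth_one_apply]
  · exfalso
    obtain ⟨w, hw, hw0⟩ := Submodule.exists_mem_ne_zero_of_ne_bot (p := eigSp D.g (-t)) (fun e' => by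
      have := (D.eig_odd ht).2
      rw [e', finrank_bot] at this
      exact Nat.not_odd_zero this)
    have h1 := congrArg (fun b : orthGroup Q => b.1 (((0 : eigSp D.g t) : ι → F) + (⟨w, hw⟩ : eigSp D.g (-t)))) e
    replace h1 := (D.ext_apply ht a 0 ⟨w, hw⟩).symm.trans h1
    simp only [negOrth_apply, map_zero, ZeroMemClass.coe_zero, zero_add] at h1
    exact hw0 ((smul_eq_zero.1 (show (2 : F) • w = 0 by
      rw [two_smul]; exact eq_neg_iff_add_eq_zero.1 h1)).resolve_left D.h.two)

theorem rho_comm (ht : t * t = (D.c : F)) (a : orthGroup (Q.restrict (eigSp D.g t))) :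
    D.rho ht a * D.x = D.x * D.rho ht a := D.oAut_comm (D.ext_comm ht a)

theorem rho_ker (ht : t * t = (D.c : F)) (a : orthGroup (Q.restrict (eigSp D.g t)))
    (ha : D.rho ht a = 1) : a = 1 ∨ a = negOrth _ :=
  Or.inl (D.rho_injective ht (ha.trans (map_one _).symm))

/-- squares keep both eigenspaces -/
theorem square_keep {z : MulAut (Cfsg.POmega F ⇑Q)} (hz : z * D.x = D.x * z) (S : Rep Q z)
    (ht : t * t = (D.c : F)) {v : ι → F} (hv : v ∈ eigSp D.g t) :
    S.map (S.map v) ∈ eigSp D.g t := by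
  obtain ⟨l, hl0, hl⟩ := D.exists_twist hz S
  have hstep : ∀ r u, u ∈ eigSp D.g r → S.map u ∈ eigSp D.g (S.field r * l⁻¹) := fun r u hu => by
    rw [D.mem_eig]
    have h1 := hl u
    rw [D.mem_eig.1 hu, S.smul] at h1
    rw [mul_comm, mul_smul, h1, inv_smul_smul₀ hl0]
  rcases eq_or_ne v 0 with rfl | hv0
  · simp
  have h2 : (S.field t * l⁻¹) * (S.field t * l⁻¹) = (D.c : F) := by
    have h3 := D.L_sq (S.map v)
    rw [D.mem_eig.1 (hstep t v hv), map_smul, D.mem_eig.1 (hstep t v hv), smul_smul] at h3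
    exact smul_left_injective F (fun e => hv0 (S.inj (e.trans (map_zero _).symm))) h3
  have h4 := hstep _ _ (hstep t v hv)
  rcases mul_self_eq_mul_self_iff.1 (h2.trans ht.symm) with e | e
  · rwa [e, e] at h4
  · rwa [e, map_neg, neg_mul, e, neg_neg] at h4

/-- restriction to an eigenspace -/
def restrictMap {y : MulAut (Cfsg.POmega F ⇑Q)} (S : Rep Q y)
    (hS : ∀ v ∈ eigSp D.g t, S.map v ∈ eigSp D.g t) : eigSp D.g t →+ eigSp D.g t where
  toFun u := ⟨S.map u, hS u u.2⟩
  map_zero' := Subtype.ext (map_zero S.map)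
  map_add' u v := Subtype.ext (map_add S.map _ _)

/-- fixed non-singular lines in the eigenspaces make an odd element trivial -/
theorem eq_one_of_lines {s : F} (hs : s * s = (D.c : F)) {y : MulAut (Cfsg.POmega F ⇑Q)}
    (hodd : Odd (orderOf y)) (S : Rep Q y) (hS : ∀ t, t * t = (D.c : F) → ∀ v ∈ eigSp D.g t, S.map v ∈ eigSp D.g t)
    (hlines : ∀ t, t * t = (D.c : F) → ∀ v ∈ eigSp D.g t, Q v ≠ 0 → ∃ l : F, S.map v = l • v) :
    y = 1 := by
  have hs' : -s * -s = (D.c : F) := by rw [neg_mul_neg, hs]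
  have hbig : ∀ t (ht : t * t = (D.c : F)), 3 ≤ Module.finrank F (eigSp D.g t) →
      ∃ a : F, ∀ v ∈ eigSp D.g t, S.map v = a • v := by
    intro t ht hd
    obtain ⟨a, ha⟩ := exists_scalar_of_lines (D.eig_nd ht) D.h.two hd (D.restrictMap S (hS t ht)) fun u hu => by
      rw [QuadraticMap.restrict_apply] at hu
      obtain ⟨l, hl⟩ := hlines t ht u u.2 hu
      exact ⟨l, Subtype.ext hl⟩
    exact ⟨a, fun v hv => congrArg Subtype.val (ha ⟨v, hv⟩)⟩
  have hone : ∀ t (ht : t * t = (D.c : F)), ∃ u ∈ eigSp D.g t, Q u ≠ 0 := by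
    intro t ht
    by_contra hno
    push Not at hno
    obtain ⟨w, hw, hw0⟩ := Submodule.exists_mem_ne_zero_of_ne_bot (p := eigSp D.g t) (fun e => by
      have := (D.eig_odd ht).1
      rw [e, finrank_bot] at this
      exact Nat.not_odd_zero this)
    refine hw0 (congrArg Subtype.val (eq_zero_of_polB_eq_zero (D.eig_nd ht) (x := ⟨w, hw⟩) fun u => ?_))
    rw [polB_restrict]
    exact polB_eq_zero_of_singular hno hw u.2
  -- the field automorphism is trivial
  have hfield : ∀ a, S.field a = a := by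
    have hsum := finrank_eig_add D.h (D.eig_compl hs)
    have := D.four
    obtain ⟨t, ht, hd⟩ : ∃ t, t * t = (D.c : F) ∧ 3 ≤ Module.finrank F (eigSp D.g t) := by
      rcases le_or_gt 3 (Module.finrank F (eigSp D.g s)) with h | h
      · exact ⟨s, hs, h⟩
      · exact ⟨-s, hs', by omega⟩
    obtain ⟨a, ha⟩ := hbig t ht hd
    obtain ⟨u, hu, hu0⟩ := hone t ht
    intro b
    have h1 := ha (b • u) (Submodule.smul_mem _ b hu)
    rw [S.smul, ha u hu, smul_smul, smul_smul] at h1
    have hne : u ≠ 0 := fun e => hu0 (by rw [e, map_zero])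
    have ha0 : a ≠ 0 := fun e => S.qmap_ne hu0 (by rw [ha u hu, e, zero_smul, map_zero])
    exact mul_right_cancel₀ ha0 ((smul_left_injective F hne h1).trans (mul_comm _ _))
  have hall : ∀ t (ht : t * t = (D.c : F)), ∃ a : F, ∀ v ∈ eigSp D.g t, S.map v = a • v := by
    intro t ht
    rcases le_or_gt 3 (Module.finrank F (eigSp D.g t)) with h | h
    · exact hbig t ht h
    obtain ⟨u, hu, hu0⟩ := hone t ht
    obtain ⟨a, ha⟩ := hlines t ht u hu hu0
    refine ⟨a, fun v hv => ?_⟩
    have hd : Module.finrank F (eigSp D.g t) = 1 := by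
      obtain ⟨j, hj⟩ := (D.eig_odd ht).1; omega
    obtain ⟨b, hb⟩ := (finrank_eq_one_iff_of_nonzero' (⟨u, hu⟩ : eigSp D.g t) (fun e => hu0 (by
      rw [show u = 0 from congrArg Subtype.val e, map_zero]))).1 hd ⟨v, hv⟩
    have hb' : b • u = v := congrArg Subtype.val hb
    rw [← hb', S.smul, hfield, ha, smul_comm]
  obtain ⟨a, ha⟩ := hall s hs
  obtain ⟨a', ha'⟩ := hall (-s) hs'
  obtain ⟨u, hu, hu0⟩ := hone s hs
  obtain ⟨w, hw, hw0⟩ := hone (-s) hs'
  have e1 := S.qmap u
  have e2 := S.qmap w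
  rw [ha u hu, qmap_smul, hfield] at e1
  rw [ha' w hw, qmap_smul, hfield] at e2
  have haa : a' * a' = a * a := by
    rw [mul_right_cancel₀ hu0 e1, mul_right_cancel₀ hw0 e2]
  refine D.eq_one_of_odd hodd S ?_
  rcases mul_self_eq_mul_self_iff.1 haa with e | e
  · refine Or.inl ⟨a, fun v => ?_⟩
    obtain ⟨p, q, rfl⟩ := D.eig_decomp hs v
    rw [map_add, ha p p.2, ha' q q.2, e, smul_add]
  · refine Or.inr ⟨a * s⁻¹, fun v => ?_⟩
    obtain ⟨p, q, rfl⟩ := D.eig_decomp hs v
    rw [map_add, ha p p.2, ha' q q.2, e, map_add, D.mem_eig.1 p.2, D.mem_eig.1 q.2, smul_add, smul_smul,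
      smul_smul, inv_mul_cancel_right₀ (D.t_ne hs), mul_assoc, inv_mul_eq_div, neg_div,
      div_self (D.t_ne hs), mul_neg, mul_one]

/-- **the odd core is trivial, split case** -/
theorem core_eq_bot_split (hall : ∀ y : MulAut (Cfsg.POmega F ⇑Q), Nonempty (Rep Q y)) {s : F}
    (hs : s * s = (D.c : F)) (A : Subgroup (MulAut (Cfsg.POmega F ⇑Q))) (hinn : ∀ k, MulAut.conj k ∈ A) :
    Cfsg.pPrimeCore 2 ↥(A ⊓ Subgroup.centralizer ({D.x} : Set (MulAut (Cfsg.POmega F ⇑Q)))) = ⊥ := by
  classical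
  have h2 := D.h.two
  haveI : Finite (ι → F) := inferInstance
  haveI : Finite (Cfsg.POmega F ⇑Q) := inferInstance
  haveI : Finite (MulAut (Cfsg.POmega F ⇑Q)) :=
    Finite.of_injective (fun α => (α : Cfsg.POmega F ⇑Q → Cfsg.POmega F ⇑Q)) DFunLike.coe_injective
  have hpow : ∀ {y : MulAut (Cfsg.POmega F ⇑Q)}, y * D.x = D.x * y → ∀ k : ℕ, y ^ k * D.x = D.x * y ^ k :=
    fun hy k => (Commute.pow_left hy k).eq
  refine centralizer_core_eq_bot (conj_inj D.h.nondeg D.h.five) D.x A hinn ?_ ?_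
  · intro P hPo hPc hPn y hy
    have hoy : Odd (orderOf y) :=
      odd_of_dvd hPo ((Subgroup.orderOf_mk _ hy) ▸ orderOf_dvd_natCard (⟨_, hy⟩ : P))
    obtain ⟨k, hk⟩ := exists_root hoy
    obtain ⟨Sz⟩ := hall (y ^ k)
    let S₀ := Sz.comp Sz
    let S : Rep Q y :=
      ⟨S₀.map, S₀.field, S₀.inj, S₀.smul, S₀.mult, S₀.qmap, fun u hu => (congrArg (fun q => q * oAut Q (refl Q u) * q⁻¹) hk).trans (S₀.conj u hu)⟩
    have hS : ∀ t, t * t = (D.c : F) → ∀ v ∈ eigSp D.g t, S.map v ∈ eigSp D.g t := fun t ht v hv =>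
      D.square_keep (hpow (hPc y hy) k) Sz ht hv
    refine D.eq_one_of_lines hs hoy S hS fun t ht v hv hv0 => ?_
    have hnorm : ∀ a, ∀ m ∈ P, D.rho ht a * m * (D.rho ht a)⁻¹ ∈ P := fun a m hm =>
      hPn _ (D.rho_comm ht a) m hm
    set R := Q.restrict (eigSp D.g t)
    let u : eigSp D.g t := ⟨v, hv⟩
    let w : eigSp D.g t := ⟨S.map v, hS t ht v hv⟩
    have hm : D.rho ht (refl R w * refl R u) ∈ P := by
      have e : D.rho ht (refl R w) = y * D.rho ht (refl R u) * y⁻¹ := by
        rw [rho_refl, rho_refl]; exact (S.conj v hv0).symm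
      rw [map_mul, e, show y * D.rho ht (refl R u) * y⁻¹ * D.rho ht (refl R u) =
        y * (D.rho ht (refl R u) * y⁻¹ * (D.rho ht (refl R u))⁻¹) by
        rw [show (D.rho ht (refl R u))⁻¹ = D.rho ht (refl R u) by rw [← map_inv, refl_inv]]
        group]
      exact P.mul_mem hy (hnorm _ _ (P.inv_mem hy))
    have hw0 : R w ≠ 0 := by rw [QuadraticMap.restrict_apply]; exact S.qmap_ne hv0
    have hu0 : R u ≠ 0 := by rw [QuadraticMap.restrict_apply]; exact hv0
    have hmem : u ∈ F ∙ w := by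
      rcases le_or_gt 4 (Module.finrank F (eigSp D.g t)) with hd | hd
      · exact near_eq (D.rho_ker ht) (D.eig_nd ht) h2 hd (D.eig_odd ht).1 P hPo hnorm hw0 hu0 hm
      obtain ⟨j, hj⟩ := (D.eig_odd ht).1
      obtain hd1 | hd3 : Module.finrank F (eigSp D.g t) = 1 ∨ Module.finrank F (eigSp D.g t) = 3 := by omega
      · obtain ⟨b, hb⟩ := (finrank_eq_one_iff_of_nonzero' w (fun e => hw0 (by rw [e, map_zero]))).1 hd1 u
        exact Submodule.mem_span_singleton.2 ⟨b, hb⟩
      · set H := P.comap (D.rho ht)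
        haveI : H.Normal := ⟨fun a ha b => by
          show D.rho ht (b * a * b⁻¹) ∈ P
          rw [map_mul, map_mul, map_inv]
          exact hnorm b _ ha⟩
        have hHo : Odd (Nat.card H) := by
          refine odd_of_dvd hPo ?_
          rw [Nat.card_congr (Subgroup.equivMapOfInjective H _ (D.rho_injective ht)).toEquiv]
          exact Subgroup.card_dvd_of_le (Subgroup.map_comap_le _ _)
        have h1 := three_eq_one (D.eig_nd ht) h2 hd3 H hHo (h := refl R w * refl R u) hm
        rw [mul_eq_one_iff_eq_inv, refl_inv] at h1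
        exact mem_line_of_refl_eq h2 hu0 h1.symm
    obtain ⟨l, hl⟩ := Submodule.mem_span_singleton.1 hmem
    have hl0 : l ≠ 0 := fun e => hu0 (by rw [← hl, e, zero_smul, map_zero])
    refine ⟨l⁻¹, ?_⟩
    rw [show v = l • S.map v from (congrArg Subtype.val hl).symm, smul_smul, inv_mul_cancel₀ hl0, one_smul]
    exact congrArg S.map (congrArg Subtype.val hl)
  · intro y hyx hoy hcen
    obtain ⟨k, hk⟩ := exists_root hoy
    obtain ⟨Sz⟩ := hall (y ^ k)
    let S₀ := Sz.comp Sz
    let S : Rep Q y :=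
      ⟨S₀.map, S₀.field, S₀.inj, S₀.smul, S₀.mult, S₀.qmap, fun u hu => (congrArg (fun q => q * oAut Q (refl Q u) * q⁻¹) hk).trans (S₀.conj u hu)⟩
    have hS : ∀ t, t * t = (D.c : F) → ∀ v ∈ eigSp D.g t, S.map v ∈ eigSp D.g t := fun t ht v hv =>
      D.square_keep (hpow hyx k) Sz ht hv
    refine D.eq_one_of_lines hs hoy S hS fun t ht v hv hv0 => ?_
    set R := Q.restrict (eigSp D.g t)
    rcases le_or_gt 4 (Module.finrank F (eigSp D.g t)) with hd | hd
    · obtain ⟨l, hl⟩ := line_of_pairs (ρ := D.rho ht) (D.rho_ker ht) (D.eig_nd ht) h2 hd (D.eig_odd ht).1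
        (D.restrictMap S (hS t ht))
        (fun u hu => by
          rw [QuadraticMap.restrict_apply] at hu ⊢
          exact S.qmap_ne hu)
        (fun u w huw => by
          rw [polB_restrict] at huw ⊢
          show polB Q (S.map u) (S.map w) = 0
          rw [S.polB_map, huw, map_zero, mul_zero])
        (fun u w hu huw _ => by
          have hw : R w ≠ 0 := huw ▸ hu
          have hgen : ReflGenerates F (eigSp D.g t) := reflGenerates_of_two_ne_zero h2
          have hc := refl_mul_refl_mem_commutator (D.eig_nd ht) hgen (by omega) hu hw (by rw [huw])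
          have h1 : y * D.rho ht (refl R u * refl R w) * y⁻¹ = D.rho ht (refl R u * refl R w) :=
            D.commute_oAut hcen (D.ext_commutator ht hc) (D.ext_comm ht _)
          rw [QuadraticMap.restrict_apply] at hu hw
          conv_rhs => rw [← h1]
          rw [map_mul, map_mul, rho_refl, rho_refl, rho_refl, rho_refl,
            show y * (oAut Q (refl Q (u : ι → F)) * oAut Q (refl Q (w : ι → F))) * y⁻¹ =
              (y * oAut Q (refl Q (u : ι → F)) * y⁻¹) * (y * oAut Q (refl Q (w : ι → F)) * y⁻¹) by group,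
            S.conj _ hu, S.conj _ hw]
          rfl)
        (u := ⟨v, hv⟩) (by rw [QuadraticMap.restrict_apply]; exact hv0)
      exact ⟨l, congrArg Subtype.val hl⟩
    -- compare with the other eigenspace
    have ht' : -t * -t = (D.c : F) := by rw [neg_mul_neg, ht]
    have hsum := finrank_eig_add D.h (D.eig_compl ht)
    have := D.four
    have := D.h.card
    obtain ⟨w, hw⟩ := exists_qmap_eq (D.eig_nd ht') (by omega) (Q v) hv0
    rw [QuadraticMap.restrict_apply] at hw
    have hgen : ReflGenerates F (ι → F) := reflGenerates_of_two_ne_zero h2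
    have hwv : polB Q v (w : ι → F) = 0 := D.eig_perp ht hv w.2
    have hc := refl_mul_refl_mem_commutator D.h.nondeg hgen (by simp; omega) hv0
      (show Q (w : ι → F) ≠ 0 by rw [hw]; exact hv0) (by rw [hw])
    have hcomm : ∀ z, D.L ((refl Q v * refl Q (w : ι → F)).1 z) = (refl Q v * refl Q (w : ι → F)).1 (D.L z) := by
      intro z
      simp only [orth_mul_apply, refl_apply, map_sub, map_smul, D.mem_eig.1 hv, D.mem_eig.1 w.2,
        LinearMap.sub_apply, LinearMap.smul_apply, D.adjoint]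
      simp only [hwv, show polB Q (w : ι → F) v = 0 by rw [polB_comm]; exact hwv]
      module
    have h1 := D.commute_oAut hcen hc hcomm
    rw [map_mul, show y * (oAut Q (refl Q v) * oAut Q (refl Q (w : ι → F))) * y⁻¹ =
      (y * oAut Q (refl Q v) * y⁻¹) * (y * oAut Q (refl Q (w : ι → F)) * y⁻¹) by group, S.conj _ hv0,
      S.conj _ (by rw [hw]; exact hv0), ← map_mul, ← map_mul] at h1
    have h3 := oAut_pair_eq D.h.nondeg h2 D.h.five h1
    have h4 := congrArg (fun a : orthGroup Q => a.1 (S.map v)) h3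
    simp only [orth_mul_apply] at h4
    rw [refl_fix (show polB Q (S.map v) (S.map w) = 0 by rw [S.polB_map, hwv, map_zero, mul_zero]),
      refl_self (S.qmap_ne hv0)] at h4
    have h5 : polB Q (S.map v) (w : ι → F) = 0 := D.eig_perp ht (hS t ht v hv) w.2
    rw [refl_fix h5, refl_apply] at h4
    refine ⟨((Q v)⁻¹ * polB Q (S.map v) v) * 2⁻¹, ?_⟩
    have h6 : ((Q v)⁻¹ * polB Q (S.map v) v) • v = (2 : F) • S.map v := by
      linear_combination (norm := module) h4
    rw [mul_comm, mul_smul, h6, smul_smul, inv_mul_cancel₀ h2, one_smul]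

end GData

end Bal

end H43
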