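import Cfsg.Agent.H55.POField
import Mathlib

/-!
# Semisimilarities commuting with the points of a subfield form
-/

set_option autoImplicit false

namespace H43

namespace Bal

open Matrix H44 H55.PO

variable {F : Type*} [Field F] {K : Type*} [Field K] [Finite K] {ι : Type} [Fintype ι] [DecidableEq ι]
  {Q : QuadraticForm F (ι → F)} {R : QuadraticForm K (ι → K)} {j : K →+* F}

/-- the semilinear map `v ↦ g (τ v)` -/
def semiMap (g : GL ι F) (τ : F ≃+* F) (x : ι → F) : ι → F := (g : Matrix ι ι F) *ᵥ vecMap τ x

theorem semiMap_add (g : GL ι F) (τ : F ≃+* F) (x y : ι → F) :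
    semiMap g τ (x + y) = semiMap g τ x + semiMap g τ y := by
  rw [semiMap, semiMap, semiMap, ← mulVec_add]
  congr 1
  funext i
  simp [vecMap]

theorem semiMap_smul (g : GL ι F) (τ : F ≃+* F) (a : F) (x : ι → F) :
    semiMap g τ (a • x) = τ a • semiMap g τ x := by
  rw [semiMap, semiMap, ← mulVec_smul]
  congr 1
  funext i
  simp [vecMap]

theorem polB_jVec (hR : ∀ v, Q (jVec j v) = j (R v)) (v w : ι → K) :
    polB Q (jVec j v) (jVec j w) = j (polB R v w) := by
  simp only [polB_apply, QuadraticMap.polar, map_sub, ← hR, ← map_add]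

/-- a semisimilarity commuting with the Eichler maps of the subfield form is trivial on the subfield -/
theorem rigid (hR : ∀ v, Q (jVec j v) = j (R v)) (hRn : (polB R).Nondegenerate)
    (h7 : 7 ≤ Fintype.card ι) (g : GL ι F) (τ : F ≃+* F)
    (hcomm : ∀ u w, R u = 0 → R w = 0 → polB R u w = 0 → ∀ x : ι → F,
      semiMap g τ (x + polB Q x (jVec j u) • jVec j w - polB Q x (jVec j w) • jVec j u) =
        semiMap g τ x + polB Q (semiMap g τ x) (jVec j u) • jVec j w
          - polB Q (semiMap g τ x) (jVec j w) • jVec j u) :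
    (∀ a, τ (j a) = j a) ∧ ∃ c : Fˣ, g = Matrix.GeneralLinearGroup.scalar ι c := by
  classical
  set T := semiMap g τ
  have hTinj : ∀ x, T x = 0 → x = 0 := fun x hx => by
    have h1 : vecMap τ x = 0 := Matrix.mulVec_injective_iff_isUnit.2 g.isUnit
      (hx.trans (mulVec_zero _).symm)
    funext i
    exact τ.injective ((congrFun h1 i).trans (map_zero τ).symm)
  have hzero : T 0 = 0 := by
    show semiMap g τ 0 = 0
    rw [semiMap]
    conv_rhs => rw [← mulVec_zero (g : Matrix ι ι F)]
    congr 1
    funext i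
    simp [vecMap]
  -- planes
  have hplane : ∀ u w, R u = 0 → R w = 0 → polB R u w = 0 → w ∉ K ∙ u → u ≠ 0 →
      T (jVec j u) ∈ Submodule.span F ({jVec j u, jVec j w} : Set (ι → F)) := by
    intro u w hu hw huw hwu hu0
    obtain ⟨x, hx, hxw⟩ := exists_orth_polB_eq hRn hwu 1
    have hxu : polB R x u = 0 := by rw [polB_comm]; exact hx u (Submodule.mem_span_singleton_self u)
    have hxw' : polB R x w = 1 := by rw [polB_comm]; exact hxw
    have h1 := hcomm u w hu hw huw (jVec j x)
    rw [polB_jVec hR, polB_jVec hR, hxu, hxw', map_zero, map_one, zero_smul, add_zero, one_smul] at h1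
    have h2 : T (jVec j x - jVec j u) = T (jVec j x) + (-1 : F) • T (jVec j u) := by
      rw [sub_eq_add_neg, ← neg_one_smul F (jVec j u)]
      show semiMap g τ _ = _
      rw [semiMap_add, semiMap_smul, map_neg, map_one]
    rw [h2] at h1
    have h3 : T (jVec j u) = polB Q (T (jVec j x)) (jVec j w) • jVec j u
        - polB Q (T (jVec j x)) (jVec j u) • jVec j w := by
      linear_combination (norm := module) -h1
    rw [h3]
    exact Submodule.sub_mem _ (Submodule.smul_mem _ _ (Submodule.subset_span (by simp)))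
      (Submodule.smul_mem _ _ (Submodule.subset_span (by simp)))
  -- points
  have hpt : ∀ u, R u = 0 → u ≠ 0 → ∃ c : F, T (jVec j u) = c • jVec j u := by
    intro u hu hu0
    obtain ⟨v, hp⟩ := exists_hypPair hRn hu hu0
    have hd : 3 ≤ Module.finrank K ((polB R).orthogonal (Submodule.span K {u, v})) := by
      have := finrank_orth_pair hRn u v
      simp only [Module.finrank_fintype_fun_eq_card] at this
      omega
    obtain ⟨w, hwU, hw0, hw⟩ := exists_singular_in (Q := R) _ hd
    obtain ⟨huw, hvw⟩ := mem_orth_pair.1 hwU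
    have hwsp : w ∉ Submodule.span K ({u, v} : Set (ι → K)) := by
      intro hmem
      obtain ⟨a, b, rfl⟩ := Submodule.mem_span_pair.1 hmem
      simp [map_add, map_smul, hp.pair, hp.symm.pair, polB_self, hu, hp.right] at huw hvw
      exact hw0 (by rw [huw, hvw]; simp)
    obtain ⟨w', hpw, hw'⟩ := exists_hypPair_orth hRn hw hwsp (fun y hy => by
      obtain ⟨a, b, rfl⟩ := Submodule.mem_span_pair.1 hy
      simp [map_add, map_smul, huw, hvw])
    have huw' : polB R u w' = 0 := hw' u (Submodule.subset_span (by simp))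
    have hn1 : w ∉ K ∙ u := fun h => hwsp (Submodule.span_mono (by simp) h)
    have hn2 : w' ∉ K ∙ u := by
      intro h
      obtain ⟨a, rfl⟩ := Submodule.mem_span_singleton.1 h
      have := hpw.pair
      rw [map_smul, polB_comm, huw, smul_zero] at this
      exact zero_ne_one this
    obtain ⟨a, b, hab⟩ := Submodule.mem_span_pair.1 (hplane u w hu hw huw hn1 hu0)
    obtain ⟨c, d, hcd⟩ := Submodule.mem_span_pair.1 (hplane u w' hu hpw.right huw' hn2 hu0)
    refine ⟨a, ?_⟩
    have h1 := congrArg (fun y => polB Q y (jVec j w')) (hab.trans hcd.symm)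
    simp only [map_add, map_smul, LinearMap.add_apply, LinearMap.smul_apply, smul_eq_mul,
      polB_jVec hR, huw', hpw.pair, polB_self, hpw.right, map_zero, map_one, mul_zero, zero_add,
      mul_one, add_zero] at h1
    rw [← hab, h1, zero_smul, add_zero]
  -- perpendicular pairs have equal factors
  have hlink : ∀ u w, R u = 0 → R w = 0 → polB R u w = 0 → w ∉ K ∙ u → u ≠ 0 → ∀ l μ : F,
      T (jVec j u) = l • jVec j u → T (jVec j w) = μ • jVec j w → ∀ a : K, τ (j a) * μ = l * j a := by
    intro u w hu hw huw hwu hu0 l μ hl hμ a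
    rcases eq_or_ne a 0 with rfl | ha
    · simp
    have huW : u ∉ K ∙ w := by
      intro h
      obtain ⟨b, hb⟩ := Submodule.mem_span_singleton.1 h
      have hb0 : b ≠ 0 := fun e => hu0 (by rw [← hb, e, zero_smul])
      exact hwu (Submodule.mem_span_singleton.2 ⟨b⁻¹, by rw [← hb, inv_smul_smul₀ hb0]⟩)
    have hz : R (u + a • w) = 0 := by rw [qmap_add_smul, hu, hw, huw]; ring
    have hz0 : u + a • w ≠ 0 := fun e => huW (Submodule.mem_span_singleton.2 ⟨-a, by
      rw [neg_smul]; exact (eq_neg_of_add_eq_zero_left e).symm⟩)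
    obtain ⟨ν, hν⟩ := hpt _ hz hz0
    have hexp : T (jVec j (u + a • w)) = l • jVec j u + (τ (j a) * μ) • jVec j w := by
      show semiMap g τ _ = _
      rw [map_add, jVec_smul, semiMap_add, semiMap_smul, ← smul_smul]
      exact congrArg₂ (· + ·) hl (congrArg (τ (j a) • ·) hμ)
    rw [hν, map_add, jVec_smul] at hexp
    obtain ⟨v, hv, hvu⟩ := exists_orth_polB_eq hRn huW 1
    obtain ⟨v', hv', hvw⟩ := exists_orth_polB_eq hRn hwu 1
    have hA := hv w (Submodule.mem_span_singleton_self w)
    have hA' := hv' u (Submodule.mem_span_singleton_self u)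
    have h1 := congrArg (fun y => polB Q y (jVec j v)) hexp
    have h2 := congrArg (fun y => polB Q y (jVec j v')) hexp
    simp only [map_add, map_smul, LinearMap.add_apply, LinearMap.smul_apply, smul_eq_mul,
      polB_jVec hR, hA, hvu, hA', hvw, map_zero, map_one, mul_zero, mul_one, add_zero, zero_add] at h1 h2
    rw [← h2, h1]
  -- one factor for all singular points
  obtain ⟨e, he0, he⟩ := exists_singular (F := K) R (by simp; omega)
  obtain ⟨f, hp⟩ := exists_hypPair hRn he he0
  obtain ⟨l, hl⟩ := hpt e he he0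
  obtain ⟨w, hwU, hw0, hw⟩ := exists_singular_in (Q := R) ((polB R).orthogonal (Submodule.span K {e, f}))
    (by
      have := finrank_orth_pair hRn e f
      simp only [Module.finrank_fintype_fun_eq_card] at this
      omega)
  obtain ⟨hew, hfw⟩ := mem_orth_pair.1 hwU
  have hwe : w ∉ K ∙ e := by
    intro h
    obtain ⟨a, rfl⟩ := Submodule.mem_span_singleton.1 h
    rw [map_smul, polB_comm, hp.pair, smul_eq_mul, mul_one] at hfw
    exact hw0 (by rw [hfw, zero_smul])
  have hτ : ∀ a, τ (j a) = j a := by
    obtain ⟨μ, hμ⟩ := hpt w hw hw0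
    have h1 := hlink e w he hw hew hwe he0 l μ hl hμ
    have hlμ : μ = l := by simpa using h1 1
    have hl0 : l ≠ 0 := by
      intro h
      rw [h, zero_smul] at hl
      exact he0 (jVec_injective j ((hTinj _ hl).trans (map_zero _).symm))
    intro a
    have := h1 a
    rw [hlμ, mul_comm l] at this
    exact mul_right_cancel₀ hl0 this
  refine ⟨hτ, ?_⟩
  have hperp : ∀ u z, R u = 0 → R z = 0 → polB R u z = 0 → u ≠ 0 → z ≠ 0 →
      T (jVec j u) = l • jVec j u → T (jVec j z) = l • jVec j z := by
    intro u z hu hz huz hu0 hz0 hul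
    by_cases hzu : z ∈ K ∙ u
    · obtain ⟨a, rfl⟩ := Submodule.mem_span_singleton.1 hzu
      show semiMap g τ _ = _
      rw [jVec_smul, semiMap_smul, hτ, smul_comm l]
      exact congrArg (j a • ·) hul
    · obtain ⟨μ, hμ⟩ := hpt z hz hz0
      have := hlink u z hu hz huz hzu hu0 l μ hul hμ 1
      rw [map_one, map_one, one_mul, mul_one] at this
      rw [hμ, this]
  have hsing : ∀ z, R z = 0 → T (jVec j z) = l • jVec j z := by
    intro z hz
    rcases eq_or_ne z 0 with rfl | hz0
    · rw [map_zero, hzero, smul_zero]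
    by_cases hez : polB R e z = 0
    · exact hperp e z he hz hez he0 hz0 hl
    · obtain ⟨y, hyU, hy0, hy⟩ := exists_singular_in (Q := R)
        ((polB R).orthogonal (Submodule.span K {e, z})) (by
          have := finrank_orth_pair hRn e z
          simp only [Module.finrank_fintype_fun_eq_card] at this
          omega)
      obtain ⟨hey, hzy⟩ := mem_orth_pair.1 hyU
      exact hperp y z hy hz (by rw [polB_comm]; exact hzy) hy0 hz0 (hperp e y he hy hey he0 hy0 hl)
  have hall : ∀ x, T (jVec j x) = l • jVec j x := by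
    intro x
    obtain ⟨u, hu⟩ := AutPO.decomp_eq hp (x := x)
    have hsum : R ((-R (u : ι → K)) • e + (1 : K) • f + (u : ι → K)) = 0 := by
      rw [AutPO.qmap_decomp hp]; ring
    have h1 := hsing _ hsum
    have hef := hsing e he
    have hff := hsing f hp.right
    rw [map_add, map_add, jVec_smul, jVec_smul] at h1
    have hTu : T (jVec j (u : ι → K)) = l • jVec j (u : ι → K) := by
      change semiMap g τ _ = _ at h1 hef hff ⊢
      rw [semiMap_add, semiMap_add, semiMap_smul, semiMap_smul, hτ, hτ, hef, hff] at h1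
      linear_combination (norm := module) h1
    change semiMap g τ _ = _ at hTu hef hff ⊢
    rw [hu, map_add, map_add, jVec_smul, jVec_smul, semiMap_add, semiMap_add, semiMap_smul, semiMap_smul,
      hτ, hτ, hef, hff, hTu]
    module
  have hl0 : l ≠ 0 := by
    intro h
    rw [h, zero_smul] at hl
    exact he0 (jVec_injective j ((hTinj _ hl).trans (map_zero _).symm))
  refine ⟨Units.mk0 l hl0, mat_ext (jVec j) (span_jVec j) fun v => ?_⟩
  have h1 := hall v
  have h2 : vecMap τ (jVec j v) = jVec j v := funext fun i => hτ (v i)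
  change (g : Matrix ι ι F) *ᵥ vecMap τ (jVec j v) = _ at h1
  rw [h2] at h1
  rw [h1, GeneralLinearGroup.coe_scalar, Units.val_mk0]
  funext i
  simp [Matrix.scalar_apply, Matrix.mulVec_diagonal]

end Bal

end H43
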