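import Cfsg.Agent.H43.Bal.Abstract
import Cfsg.Agent.H43.Bal.Rigid
import Cfsg.Agent.H43.Simple
import Cfsg.Agent.H55.POBase
import Cfsg.Agent.H44.SimSemi
import Cfsg.Agent.H48.LocalBalance
import Mathlib

/-!
# Local balance at field automorphisms of `PΩ(Q)`
-/

set_option autoImplicit false

namespace H43

namespace Bal

open Matrix H44 H55.PO

open scoped commutatorElement

variable {F : Type*} [Field F] [Finite F] {K : Type*} [Field K] [Finite K] {ι : Type} [Fintype ι]
  [DecidableEq ι] {Q : QuadraticForm F (ι → F)} {R : QuadraticForm K (ι → K)} {j : K →+* F}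

variable (hR : ∀ v, Q (jVec j v) = j (R v))

/-- conjugation is faithful on `PΩ(Q)` -/
theorem conj_inj (hQ : (polB Q).Nondegenerate) (h5 : 5 ≤ Fintype.card ι) :
    Function.Injective (MulAut.conj : Cfsg.POmega F ⇑Q → MulAut (Cfsg.POmega F ⇑Q)) := by
  haveI := isSimpleGroup_POmega hQ h5
  rw [← MonoidHom.ker_eq_bot_iff]
  rcases IsSimpleGroup.eq_bot_or_eq_top_of_normal (MulAut.conj : Cfsg.POmega F ⇑Q →* _).ker
    inferInstance with h | h
  · exact h
  exfalso
  have hc : ∀ a b : Cfsg.POmega F ⇑Q, a * b = b * a := fun a b => by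
    have h1 : MulAut.conj a b = b := by
      rw [MonoidHom.mem_ker.1 (h ▸ Subgroup.mem_top a : a ∈ (MulAut.conj : Cfsg.POmega F ⇑Q →* _).ker)]
      rfl
    rw [MulAut.conj_apply] at h1
    exact mul_inv_eq_iff_eq_mul.1 h1
  have hle : commutator (Cfsg.Omega F ⇑Q) ≤ Subgroup.center (Cfsg.Omega F ⇑Q) := by
    rw [commutator_def, Subgroup.commutator_le]
    intro a _ b _
    refine (QuotientGroup.eq_one_iff _).1 ?_
    show QuotientGroup.mk' _ ⁅a, b⁆ = (1 : Cfsg.POmega F ⇑Q)
    rw [map_commutatorElement, commutatorElement_eq_one_iff_mul_comm]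
    exact hc _ _
  rw [omega_perfect hQ h5] at hle
  haveI : Subsingleton (Cfsg.POmega F ⇑Q) := ⟨fun a b => by
    obtain ⟨s, rfl⟩ := QuotientGroup.mk'_surjective _ a
    obtain ⟨t, rfl⟩ := QuotientGroup.mk'_surjective _ b
    exact QuotientGroup.eq.2 (hle (Subgroup.mem_top _))⟩
  exact false_of_nontrivial_of_subsingleton (Cfsg.POmega F ⇑Q)

/-- base change on isometry groups -/
noncomputable def bcIso : Cfsg.isometryGroup K ⇑R →* Cfsg.isometryGroup F ⇑Q :=
  MonoidHom.codRestrict ((Matrix.GeneralLinearGroup.map j).comp (Cfsg.isometryGroup K ⇑R).subtype) _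
    fun g => mem_isometry.2 fun x => by
      have h := (baseExt hR).map_similar (c := 1) (fun v => by rw [one_mul]; exact mem_isometry.1 g.2 v) x
      rw [map_one, one_mul] at h
      exact h

/-- base change on `Ω` -/
noncomputable def bcOmega : Cfsg.Omega K ⇑R →* Cfsg.Omega F ⇑Q :=
  MonoidHom.codRestrict ((bcIso hR).comp (Cfsg.Omega K ⇑R).subtype) _ fun s => by
    have h : (commutator (Cfsg.isometryGroup K ⇑R)).map (bcIso hR) ≤
        commutator (Cfsg.isometryGroup F ⇑Q) := by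
      rw [commutator_def, commutator_def, Subgroup.map_commutator]
      exact Subgroup.commutator_mono le_top le_top
    exact h ⟨s.1, s.2, rfl⟩

/-- base change to `PΩ` -/
noncomputable def bcP : Cfsg.Omega K ⇑R →* Cfsg.POmega F ⇑Q :=
  (QuotientGroup.mk' _).comp (bcOmega hR)

theorem coe_bcOmega (s : Cfsg.Omega K ⇑R) :
    (bcOmega hR s).1.1 = Matrix.GeneralLinearGroup.map j s.1.1 := rfl

include hR

theorem bcP_center (hQ : (polB Q).Nondegenerate) (h5 : 5 ≤ Fintype.card ι) {s : Cfsg.Omega K ⇑R}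
    (hs : s ∈ Subgroup.center (Cfsg.Omega K ⇑R)) : bcP hR s = 1 := by
  refine (QuotientGroup.eq_one_iff _).2 ((omega_center_iff hQ h5 _).2 ?_)
  rw [coe_bcOmega]
  rcases (omega_center_iff (nondeg_descend hR hQ) h5 s).1 hs with h | h
  · left
    show (s.1.1 : Matrix ι ι K).map j = 1
    rw [h, Matrix.map_one _ (map_zero j) (map_one j)]
  · right
    show (s.1.1 : Matrix ι ι K).map j = -1
    rw [h, ← Matrix.map_one (α := K) (β := F) j (map_zero j) (map_one j), Matrix.map_neg j (map_neg j)]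

theorem mem_center_of_bcP (hQ : (polB Q).Nondegenerate) (h5 : 5 ≤ Fintype.card ι) {s : Cfsg.Omega K ⇑R}
    (hs : bcP hR s = 1) : s ∈ Subgroup.center (Cfsg.Omega K ⇑R) := by
  have h1 := (omega_center_iff hQ h5 _).1 ((QuotientGroup.eq_one_iff _).1 hs)
  rw [coe_bcOmega] at h1
  refine (omega_center_iff (nondeg_descend hR hQ) h5 s).2 ?_
  have hinj : Function.Injective fun M : Matrix ι ι K => M.map j := Matrix.map_injective j.injective
  rcases h1 with h | h
  · refine Or.inl (hinj (?_ : (s.1.1 : Matrix ι ι K).map j = _))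
    exact h.trans (Matrix.map_one _ (map_zero j) (map_one j)).symm
  · refine Or.inr (hinj (?_ : (s.1.1 : Matrix ι ι K).map j = _))
    refine h.trans ?_
    rw [← Matrix.map_one (α := K) (β := F) j (map_zero j) (map_one j)]
    exact (Matrix.map_neg j (map_neg j) 1).symm

theorem bcP_simple (hQ : (polB Q).Nondegenerate) (h5 : 5 ≤ Fintype.card ι)
    (N : Subgroup (Cfsg.POmega F ⇑Q)) (hN : N ≤ (bcP hR).range)
    (hconj : ∀ s ∈ (bcP hR).range, ∀ n ∈ N, s * n * s⁻¹ ∈ N) : N = ⊥ ∨ N = (bcP hR).range := by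
  have hRn := nondeg_descend hR hQ
  haveI : (N.comap (bcP hR)).Normal := ⟨fun n hn g => by
    rw [Subgroup.mem_comap, map_mul, map_mul, map_inv]
    exact hconj _ ⟨g, rfl⟩ _ hn⟩
  haveI := isSimpleGroup_POmega hRn h5
  rcases IsSimpleGroup.eq_bot_or_eq_top_of_normal
      ((N.comap (bcP hR)).map (QuotientGroup.mk' (Subgroup.center (Cfsg.Omega K ⇑R))))
      (Subgroup.Normal.map inferInstance _ (QuotientGroup.mk'_surjective _)) with h | h
  · left
    rw [Subgroup.eq_bot_iff_forall]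
    intro n hn
    obtain ⟨s, rfl⟩ := hN hn
    have h1 : QuotientGroup.mk' (Subgroup.center (Cfsg.Omega K ⇑R)) s = 1 :=
      (Subgroup.eq_bot_iff_forall _).1 h _ ⟨s, hn, rfl⟩
    exact bcP_center hR hQ h5 ((QuotientGroup.eq_one_iff s).1 h1)
  · right
    refine le_antisymm hN ?_
    rintro _ ⟨s, rfl⟩
    obtain ⟨t, ht, hts⟩ := (h ▸ Subgroup.mem_top _ :
      QuotientGroup.mk' (Subgroup.center (Cfsg.Omega K ⇑R)) s ∈
        (N.comap (bcP hR)).map (QuotientGroup.mk' (Subgroup.center (Cfsg.Omega K ⇑R))))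
    have h1 : bcP hR (t⁻¹ * s) = 1 := bcP_center hR hQ h5 (QuotientGroup.eq.1 hts)
    rw [map_mul, map_inv, inv_mul_eq_one] at h1
    rw [← h1]
    exact ht

/-- an involution of `Ω(R)` outside the centre -/
theorem exists_involution (hQ : (polB Q).Nondegenerate) (h7 : 7 ≤ Fintype.card ι) (h2 : (2 : F) ≠ 0) :
    ∃ s : Cfsg.Omega K ⇑R, bcP hR s ^ 2 = 1 ∧ bcP hR s ≠ 1 := by
  classical
  have h2K : (2 : K) ≠ 0 := two_ne_zero_small j h2
  have hRn := nondeg_descend hR hQ
  have hd : 2 ≤ Module.finrank K (ι → K) := by simp; omega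
  have hgen : ReflGenerates K (ι → K) := reflGenerates_of_two_ne_zero h2K
  obtain ⟨e, he0, he⟩ := exists_singular (F := K) R (by simp; omega)
  obtain ⟨f, hp⟩ := exists_hypPair hRn he he0
  obtain ⟨w, hwU, hw0, hw⟩ := exists_singular_in (Q := R) ((polB R).orthogonal (Submodule.span K {e, f}))
    (by
      have := finrank_orth_pair hRn e f
      simp only [Module.finrank_fintype_fun_eq_card] at this
      omega)
  obtain ⟨hew, hfw⟩ := mem_orth_pair.1 hwU
  have hwsp : w ∉ Submodule.span K ({e, f} : Set (ι → K)) := by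
    intro hmem
    obtain ⟨a, b, rfl⟩ := Submodule.mem_span_pair.1 hmem
    simp [map_add, map_smul, hp.pair, hp.symm.pair, polB_self, he, hp.right] at hew hfw
    exact hw0 (by rw [hew, hfw]; simp)
  obtain ⟨w', hpw, hw'⟩ := exists_hypPair_orth hRn hw hwsp (fun y hy => by
    obtain ⟨a, b, rfl⟩ := Submodule.mem_span_pair.1 hy
    simp [map_add, map_smul, hew, hfw])
  have hew' : polB R e w' = 0 := hw' e (Submodule.subset_span (by simp))
  have hfw' : polB R f w' = 0 := hw' f (Submodule.subset_span (by simp))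
  have hu : R (e + f) = 1 := by rw [qmap_add, he, hp.right, hp.pair]; ring
  have hv : R (w + w') = 1 := by rw [qmap_add, hw, hpw.right, hpw.pair]; ring
  have huv : polB R (e + f) (w + w') = 0 := by
    simp [map_add, hew, hfw, hew', hfw']
  have hu0 : R (e + f) ≠ 0 := by rw [hu]; exact one_ne_zero
  have hv0 : R (w + w') ≠ 0 := by rw [hv]; exact one_ne_zero
  set r : orthGroup R := refl R (e + f) * refl R (w + w') with hr
  have hmem : (toOrth R).symm r ∈ Cfsg.Omega K ⇑R := by
    rw [mem_Omega_iff, MulEquiv.apply_symm_apply]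
    exact refl_mul_refl_mem_commutator hRn hgen hd hu0 hv0 (by rw [hu, hv])
  have hru : r.1 (e + f) = -(e + f) := by
    rw [hr, orth_mul_apply, refl_fix huv, refl_apply, polB_self, hu, inv_one, one_mul, mul_one]
    module
  have hre : r.1 (e - f) = e - f := by
    have h1 : polB R (e - f) (w + w') = 0 := by simp [map_add, map_sub, hew, hfw, hew', hfw']
    have h3 : polB R (e - f) (e + f) = 0 := by
      simp [map_add, map_sub, hp.pair, hp.symm.pair, polB_self, he, hp.right]
    rw [hr, orth_mul_apply, refl_fix h1, refl_fix h3]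
  refine ⟨⟨_, hmem⟩, ?_, fun h => ?_⟩
  · rw [← map_pow, show (⟨(toOrth R).symm r, hmem⟩ : Cfsg.Omega K ⇑R) ^ 2 = 1 from Subtype.ext (by
      rw [SubmonoidClass.coe_pow, OneMemClass.coe_one]
      show (toOrth R).symm r ^ 2 = 1
      rw [← map_pow, pow_two, hr]
      rw [show refl R (e + f) * refl R (w + w') * (refl R (e + f) * refl R (w + w')) =
        (refl R (e + f) * refl R (w + w') * (refl R (e + f))⁻¹) * refl R (w + w') by
        rw [refl_inv]; simp only [mul_assoc], refl_conj,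
        refl_fix (show polB R (w + w') (e + f) = 0 by rw [polB_comm]; exact huv), refl_sq, map_one]), map_one]
  · rcases (omega_center_iff hRn (by omega) _).1 (mem_center_of_bcP hR hQ (by omega) h) with h1 | h1
    · have h3 := toOrth_apply ((toOrth R).symm r) (e + f)
      rw [MulEquiv.apply_symm_apply, hru] at h3
      change _ = ((((⟨(toOrth R).symm r, hmem⟩ : Cfsg.Omega K ⇑R).1).1 : Matrix ι ι K)) *ᵥ _ at h3
      rw [h1, one_mulVec] at h3
      have h4 : (2 : K) • (e + f) = 0 := by rw [two_smul]; exact eq_neg_iff_add_eq_zero.1 h3.symm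
      have h5 := (smul_eq_zero.1 h4).resolve_left h2K
      exact one_ne_zero (hu.symm.trans (by rw [h5, map_zero]))
    · have h3 := toOrth_apply ((toOrth R).symm r) (e - f)
      rw [MulEquiv.apply_symm_apply, hre] at h3
      change _ = ((((⟨(toOrth R).symm r, hmem⟩ : Cfsg.Omega K ⇑R).1).1 : Matrix ι ι K)) *ᵥ _ at h3
      rw [h1, neg_mulVec, one_mulVec] at h3
      have h4 : (2 : K) • (e - f) = 0 := by rw [two_smul]; exact eq_neg_iff_add_eq_zero.1 h3
      have h5 := (smul_eq_zero.1 h4).resolve_left h2K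
      have h6 := congrArg (polB R f) h5
      simp [map_sub, polB_self, hp.right, hp.symm.pair] at h6

omit hR in
/-- the square of an isometry lies in `Ω` -/
theorem orth_sq_mem (hRn : (polB R).Nondegenerate) (h7 : 7 ≤ Fintype.card ι) (x : orthGroup R) :
    x * x ∈ commutator (orthGroup R) := by
  haveI := Fintype.ofFinite K
  have hgen : ReflGenerates K (ι → K) := reflGenerates_of_card (Or.inr (by simp; omega))
  rw [H43.mem_commutator_iff hRn hgen (by simp; omega)]
  rw [H44.dickson_mul hRn hgen, H44.spinor_mul hRn hgen]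
  exact ⟨mulTwo_mul_self _, sqClass_mul_self _⟩

/-- fixed points of a field automorphism normalise the subfield group -/
theorem bcP_norm (σ : invAut Q) (hj : FixHom σ.1 j) (hQ : (polB Q).Nondegenerate)
    (h7 : 7 ≤ Fintype.card ι) (c : Cfsg.POmega F ⇑Q) (hc : fieldPO Q σ c = c) :
    (∀ s ∈ (bcP hR).range, c * s * c⁻¹ ∈ (bcP hR).range) ∧ c ^ 4 ∈ (bcP hR).range := by
  classical
  have hRn := nondeg_descend hR hQ
  haveI := isSimpleGroup_POmega hQ (by omega : 5 ≤ Fintype.card ι)
  obtain ⟨v₀, hv₀⟩ := exists_ne_zero hRn (by omega)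
  obtain ⟨t, rfl⟩ := QuotientGroup.mk'_surjective (Subgroup.center (Cfsg.Omega F ⇑Q)) c
  have hfix : simAut Q (omegaSim Q t) * fieldPO Q σ * (simAut Q (omegaSim Q t))⁻¹ = fieldPO Q σ := by
    rw [simAut_omegaSim, mul_inv_eq_iff_eq_mul]
    conv_lhs => rw [show MulAut.conj (QuotientGroup.mk t : Cfsg.POmega F ⇑Q) =
      MulAut.conj (fieldPO Q σ (QuotientGroup.mk t)) from congrArg _ hc.symm, ← aut_conj,
      inv_mul_cancel_right]
  obtain ⟨a, h, hh, hth⟩ := (centralizes_iff σ hQ (by omega) _).1 hfix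
  obtain ⟨y, hy⟩ := exists_sim hj hR hv₀ (g := h) (congrArg Subtype.val hh)
  have hconj : MulAut.conj (QuotientGroup.mk t : Cfsg.POmega F ⇑Q) = simAut Q ((baseExt hR).sim y) := by
    rw [← simAut_omegaSim, hth, map_mul, scalarHom_mem_ker, one_mul, hy]
  constructor
  · rintro _ ⟨s, rfl⟩
    refine ⟨conjOmega R y s, ?_⟩
    show bcP hR _ = MulAut.conj (QuotientGroup.mk t : Cfsg.POmega F ⇑Q) (bcP hR s)
    rw [hconj]
    show (QuotientGroup.mk (bcOmega hR _) : Cfsg.POmega F ⇑Q) =
      simAut Q _ (QuotientGroup.mk (bcOmega hR s))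
    rw [simAut_mk]
    congr 1
    apply Subtype.ext
    apply Subtype.ext
    rw [coe_bcOmega, coe_conjOmega, coe_conjOmega, map_mul, map_mul, map_inv, coe_bcOmega]
    rfl
  · -- `y² = μ x` with `x² ∈ Ω`
    let z : simG R := (scalarHom R (simMu y))⁻¹ * (y * y)
    have hz : z.1 ∈ Cfsg.isometryGroup K ⇑R := by
      rw [mem_isometry]
      intro v
      show R ((((scalarHom R (simMu y))⁻¹ * (y * y)).1 : Matrix ι ι K) *ᵥ v) = R v
      rw [← map_inv, Subgroup.coe_mul, Units.val_mul, ← mulVec_mulVec, scalarHom_mulVec, qmap_smul,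
        Subgroup.coe_mul, Units.val_mul, ← mulVec_mulVec, simMu_spec, simMu_spec,
        Units.val_inv_eq_inv_val]
      have := (simMu y).ne_zero
      field_simp
    set x := toOrth R ⟨z.1, hz⟩
    have hzx : z = orthSim R x := simG_ext fun v => by rw [orthSim_mulVec, toOrth_apply]
    have hmem : (toOrth R).symm (x * x) ∈ Cfsg.Omega K ⇑R := by
      rw [mem_Omega_iff, MulEquiv.apply_symm_apply]
      exact orth_sq_mem hRn h7 x
    refine ⟨⟨_, hmem⟩, ?_⟩
    have hinj : Function.Injective (MulAut.conj : Cfsg.POmega F ⇑Q → MulAut (Cfsg.POmega F ⇑Q)) :=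
      conj_inj hQ (by omega)
    apply hinj
    rw [map_pow, show (QuotientGroup.mk' _ t : Cfsg.POmega F ⇑Q) = QuotientGroup.mk t from rfl, hconj]
    show MulAut.conj (QuotientGroup.mk (bcOmega hR ⟨_, hmem⟩) : Cfsg.POmega F ⇑Q) = _
    rw [← simAut_omegaSim]
    have e1 : omegaSim Q (bcOmega hR ⟨_, hmem⟩) = (baseExt hR).sim (z * z) := by
      apply Subtype.ext
      rw [coe_omegaSim, coe_bcOmega, Ext.coe_sim]
      show Matrix.GeneralLinearGroup.map j ((toOrth R).symm (x * x)).1 =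
        Matrix.GeneralLinearGroup.map j (z * z).1
      congr 1
      rw [map_mul, hzx]
      rfl
    rw [e1]
    simp only [z, map_mul, map_inv, Ext.sim_scalar, scalarHom_mem_ker, inv_one, one_mul]
    rw [pow_succ, pow_succ, pow_two]
    simp only [mul_assoc]

/-- elements fixing the subfield group pointwise -/
theorem bcP_cent (σ : invAut Q) (hj : FixHom σ.1 j) (hQ : (polB Q).Nondegenerate)
    (h7 : 7 ≤ Fintype.card ι) {p : ℕ} [Fact p.Prime] (hσ : orderOf σ.1 = p)
    (hall : ∀ α : MulAut (Cfsg.POmega F ⇑Q), ∃ (g : GL ι F) (τ : F ≃+* F),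
      Cfsg.IsSemisimilarityPair ⇑Q g τ ∧ Cfsg.IsInducedBySemilinearPOmega ⇑Q g τ α)
    (α : MulAut (Cfsg.POmega F ⇑Q)) (hα : ∀ s ∈ (bcP hR).range, α s = s) : α ^ p = 1 := by
  classical
  have hRn := nondeg_descend hR hQ
  obtain ⟨g, τ, hpair, hind⟩ := hall α
  obtain ⟨E, hE⟩ := exists_semiOmega hpair
  have hEs : ∀ s, E (bcOmega hR s) = bcOmega hR s := by
    have hcen : ∀ s, (bcOmega hR s)⁻¹ * E (bcOmega hR s) ∈ Subgroup.center (Cfsg.Omega F ⇑Q) := fun s => by
      rw [← QuotientGroup.eq, ← hind _ _ (hE (bcOmega hR s))]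
      exact (hα _ ⟨s, rfl⟩).symm
    let χ : Cfsg.Omega K ⇑R →* Subgroup.center (Cfsg.Omega F ⇑Q) :=
      MonoidHom.mk' (fun s => ⟨_, hcen s⟩) fun s t => Subtype.ext (by
        show (bcOmega hR (s * t))⁻¹ * E (bcOmega hR (s * t)) =
          (bcOmega hR s)⁻¹ * E (bcOmega hR s) * ((bcOmega hR t)⁻¹ * E (bcOmega hR t))
        rw [map_mul, map_mul, ← mul_assoc ((bcOmega hR s)⁻¹ * E (bcOmega hR s)),
          ← Subgroup.mem_center_iff.1 (hcen s) (bcOmega hR t)⁻¹]
        group)
    intro s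
    have hle : commutator (Cfsg.Omega K ⇑R) ≤ χ.ker := by
      rw [commutator_def, Subgroup.commutator_le]
      intro a _ b _
      rw [MonoidHom.mem_ker, map_commutatorElement, commutatorElement_eq_one_iff_mul_comm]
      exact Subtype.ext (Subgroup.mem_center_iff.1 (χ b).2 (χ a).1)
    rw [omega_perfect hRn (by omega)] at hle
    exact (inv_mul_eq_one.1 (congrArg Subtype.val (hle (Subgroup.mem_top s)))).symm
  have hgs : ∀ (s : Cfsg.Omega K ⇑R) (x : ι → F),
      semiMap g τ ((bcOmega hR s).1.1.1 *ᵥ x) = (bcOmega hR s).1.1.1 *ᵥ semiMap g τ x := by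
    intro s x
    have h1 := hE (bcOmega hR s)
    rw [hEs s] at h1
    unfold semiMap
    conv_rhs => rw [h1, mulVec_mulVec, Matrix.mul_assoc, Units.inv_mul, Matrix.mul_one, ← mulVec_mulVec]
    rw [← vecMap_mulVec]
  obtain ⟨hτ, c, hgc⟩ := rigid hR hRn h7 g τ fun u w hu hw huw x => by
    have hmem : (toOrth R).symm (eichler R u w) ∈ Cfsg.Omega K ⇑R := by
      rw [mem_Omega_iff, MulEquiv.apply_symm_apply, commutator_eq_eichlerSub hRn (by simp; omega)]
      exact eichler_mem hu huw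
    have hju : Q (jVec j u) = 0 := by rw [hR, hu, map_zero]
    have hjuw : polB Q (jVec j u) (jVec j w) = 0 := by rw [polB_jVec hR, huw, map_zero]
    have hact : ∀ y : ι → F, (bcOmega hR ⟨_, hmem⟩).1.1.1 *ᵥ y =
        y + polB Q y (jVec j u) • jVec j w - polB Q y (jVec j w) • jVec j u := by
      intro y
      have e1 : Matrix.toLin' ((bcOmega hR ⟨_, hmem⟩).1.1.1) =
          ((eichler Q (jVec j u) (jVec j w)).1 : (ι → F) →ₗ[F] (ι → F)) := by
        refine LinearMap.ext_on_range (span_jVec (ι := ι) j) fun v => ?_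
        rw [toLin'_apply]
        show ((Matrix.GeneralLinearGroup.map j _ : GL ι F) : Matrix ι ι F) *ᵥ jVec j v =
          (eichler Q (jVec j u) (jVec j w)).1 (jVec j v)
        rw [eichler_apply hju hjuw, polB_jVec hR, polB_jVec hR, hR, hw]
        refine (map_mulVec j _ v).trans ?_
        have e2 := toOrth_apply ((toOrth R).symm (eichler R u w)) v
        rw [MulEquiv.apply_symm_apply, eichler_apply hu huw] at e2
        refine (congrArg (jVec j) e2.symm).trans ?_
        simp [map_sub, map_add, jVec_smul, hw]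
      rw [← toLin'_apply, e1]
      show (eichler Q (jVec j u) (jVec j w)).1 y = _
      rw [eichler_apply hju hjuw, hR, hw, map_zero, zero_mul, zero_smul, sub_zero]
    have := hgs ⟨_, hmem⟩ x
    rwa [hact, hact] at this
  obtain ⟨v₀, hv₀⟩ := exists_ne_zero hRn (by omega)
  obtain ⟨μ, hμ⟩ := id hpair
  have hgv : ∀ v, (g : Matrix ι ι F) *ᵥ v = (c : F) • v := fun v => by
    rw [hgc, GeneralLinearGroup.coe_scalar]
    funext i
    simp [Matrix.scalar_apply, Matrix.mulVec_diagonal]
  have hμc : (μ : F) = c * c := by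
    have h1 := hμ (jVec j v₀)
    rw [show (fun i => τ (jVec j v₀ i)) = jVec j v₀ from funext fun i => hτ (v₀ i), hgv, qmap_smul, hR,
      hτ] at h1
    exact (mul_right_cancel₀ ((map_ne_zero j).2 hv₀) h1).symm
  have hinv : τ ∈ invAut Q := fun v => by
    have h1 := hμ v
    rw [hgv, qmap_smul, hμc] at h1
    exact mul_left_cancel₀ (mul_ne_zero c.ne_zero c.ne_zero) h1
  obtain ⟨u, hu, hαu⟩ := eq_of_induced (τ := ⟨τ, hinv⟩) hpair hind
  have hu1 : u = scalarHom Q c := simG_ext fun v => by rw [hu, hgv, scalarHom_mulVec]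
  rw [hαu, hu1, scalarHom_mem_ker, one_mul, ← map_pow,
    show (⟨τ, hinv⟩ : invAut Q) ^ p = 1 from Subtype.ext ?_, map_one]
  rw [SubmonoidClass.coe_pow, OneMemClass.coe_one]
  letI := Fintype.ofFinite F
  refine H48.Balance.pow_eq_one_of_fix hσ fun a ha => ?_
  obtain ⟨b, rfl⟩ := (hj.fix a).1 ha
  exact hτ b

/-- **local balance at a standard field automorphism** -/
theorem orth_core_ne_bot_iff (σ : invAut Q) (hj : FixHom σ.1 j) (hQ : (polB Q).Nondegenerate)
    (h7 : 7 ≤ Fintype.card ι) {p : ℕ} [Fact p.Prime] (hσ : orderOf σ.1 = p) (hp2 : p = 2 → (2 : F) ≠ 0)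
    (hall : ∀ α : MulAut (Cfsg.POmega F ⇑Q), ∃ (g : GL ι F) (τ : F ≃+* F),
      Cfsg.IsSemisimilarityPair ⇑Q g τ ∧ Cfsg.IsInducedBySemilinearPOmega ⇑Q g τ α)
    (A : Subgroup (MulAut (Cfsg.POmega F ⇑Q))) (hinn : ∀ k, MulAut.conj k ∈ A) :
    Cfsg.pPrimeCore p ↥(A ⊓ Subgroup.centralizer {fieldPO Q σ}) ≠ ⊥ ↔
      Nat.Coprime p (Nat.card ↥(MonoidHom.eqLocus (fieldPO Q σ).toMonoidHom
        (MonoidHom.id (Cfsg.POmega F ⇑Q)))) := by
  classical
  haveI : Finite (ι → F) := inferInstance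
  haveI : Finite (Cfsg.Omega F ⇑Q) := inferInstance
  haveI : Finite (Cfsg.POmega F ⇑Q) := inferInstance
  have h5 : 5 ≤ Fintype.card ι := by omega
  have hRn := nondeg_descend hR hQ
  haveI := isSimpleGroup_POmega hQ h5
  refine core_ne_bot_iff (conj_inj hQ h5) A hinn (bcP hR).range
    ?_ ?_ (bcP_simple hR hQ h5) (fun c hc => (bcP_norm hR σ hj hQ h7 c hc).1) ?_
    (bcP_cent hR σ hj hQ h7 hσ hall)
  · rintro _ ⟨s, rfl⟩
    show (QuotientGroup.mk _ : Cfsg.POmega F ⇑Q) = QuotientGroup.mk _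
    congr 1
    refine Subtype.ext (Subtype.ext (Units.ext (Matrix.ext fun a b => ?_)))
    exact hj.map _
  · intro h
    rw [MonoidHom.range_eq_bot_iff] at h
    have h1 : Subgroup.center (Cfsg.Omega K ⇑R) = ⊤ := by
      rw [eq_top_iff]
      intro s _
      exact mem_center_of_bcP hR hQ h5 (by rw [h]; rfl)
    haveI := isSimpleGroup_POmega hRn h5
    haveI : Subsingleton (Cfsg.POmega K ⇑R) := ⟨fun a b => by
      obtain ⟨s, rfl⟩ := QuotientGroup.mk'_surjective _ a
      obtain ⟨t, rfl⟩ := QuotientGroup.mk'_surjective _ b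
      exact QuotientGroup.eq.2 (h1 ▸ Subgroup.mem_top _)⟩
    exact false_of_nontrivial_of_subsingleton (Cfsg.POmega K ⇑R)
  · intro hd
    obtain ⟨⟨c, hc⟩, hcp⟩ := exists_prime_orderOf_dvd_card' p hd
    rw [Subgroup.orderOf_mk] at hcp
    by_cases h : p = 2
    · subst h
      obtain ⟨s, hs2, hs1⟩ := exists_involution hR hQ h7 (hp2 rfl)
      have h1 : orderOf (⟨bcP hR s, s, rfl⟩ : (bcP hR).range) = 2 := by
        rw [← Subgroup.orderOf_coe]
        exact orderOf_eq_prime hs2 hs1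
      exact h1 ▸ orderOf_dvd_natCard _
    · have h4 := (bcP_norm hR σ hj hQ h7 c hc).2
      have h1 : orderOf (⟨c ^ 4, h4⟩ : (bcP hR).range) = p := by
        rw [← Subgroup.orderOf_coe, Nat.Coprime.orderOf_pow, hcp]
        rw [hcp, show (4 : ℕ) = 2 ^ 2 by norm_num]
        exact ((Nat.coprime_primes Fact.out Nat.prime_two).2 h).pow_right 2
      exact h1 ▸ orderOf_dvd_natCard _

end Bal

end H43
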