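import Cfsg.Agent.H43.Bal.Abstract
import Cfsg.Agent.H10.Basic
import Mathlib

/-!
# Moving the centraliser of an automorphism along a conjugation
-/

set_option autoImplicit false

namespace H43

namespace Bal

variable {G : Type*} [Group G]

theorem map_inf_centralizer (A : Subgroup (MulAut G)) (a φ : MulAut G) :
    (A ⊓ Subgroup.centralizer ({a * φ * a⁻¹} : Set (MulAut G))).map (MulAut.conj a⁻¹).toMonoidHom =
      A.map (MulAut.conj a⁻¹).toMonoidHom ⊓ Subgroup.centralizer {φ} := by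
  rw [Subgroup.map_inf _ _ _ (MulEquiv.injective _)]
  congr 1
  ext y
  rw [Subgroup.mem_map, Subgroup.mem_centralizer_singleton_iff]
  constructor
  · rintro ⟨z, hz, rfl⟩
    rw [Subgroup.mem_centralizer_singleton_iff] at hz
    show a⁻¹ * z * a⁻¹⁻¹ * φ = φ * (a⁻¹ * z * a⁻¹⁻¹)
    calc a⁻¹ * z * a⁻¹⁻¹ * φ = a⁻¹ * (z * (a * φ * a⁻¹)) * a := by group
      _ = a⁻¹ * ((a * φ * a⁻¹) * z) * a := by rw [hz]
      _ = φ * (a⁻¹ * z * a⁻¹⁻¹) := by group
  · intro hy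
    refine ⟨a * y * a⁻¹, Subgroup.mem_centralizer_singleton_iff.2 ?_, ?_⟩
    · calc a * y * a⁻¹ * (a * φ * a⁻¹) = a * (y * φ) * a⁻¹ := by group
        _ = a * (φ * y) * a⁻¹ := by rw [hy]
        _ = a * φ * a⁻¹ * (a * y * a⁻¹) := by group
    · show a⁻¹ * (a * y * a⁻¹) * a⁻¹⁻¹ = y
      group

theorem core_transport (p : ℕ) (A : Subgroup (MulAut G)) (a φ : MulAut G) :
    Cfsg.pPrimeCore p ↥(A ⊓ Subgroup.centralizer ({a * φ * a⁻¹} : Set (MulAut G))) ≠ ⊥ ↔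
      Cfsg.pPrimeCore p ↥(A.map (MulAut.conj a⁻¹).toMonoidHom ⊓ Subgroup.centralizer {φ}) ≠ ⊥ := by
  let E : ↥(A ⊓ Subgroup.centralizer ({a * φ * a⁻¹} : Set (MulAut G))) ≃*
      ↥(A.map (MulAut.conj a⁻¹).toMonoidHom ⊓ Subgroup.centralizer {φ}) :=
    (Subgroup.equivMapOfInjective _ _ (MulEquiv.injective _)).trans
      (MulEquiv.subgroupCongr (map_inf_centralizer A a φ))
  rw [← H10.map_pPrimeCore_equiv E, ne_eq, ne_eq, Subgroup.map_eq_bot_iff_of_injective _ E.injective]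

theorem inn_transport (A : Subgroup (MulAut G)) (a : MulAut G) (hinn : ∀ k, MulAut.conj k ∈ A) (y : G) :
    MulAut.conj y ∈ A.map (MulAut.conj a⁻¹).toMonoidHom :=
  ⟨MulAut.conj (a y), hinn _, by
    show a⁻¹ * MulAut.conj (a y) * a⁻¹⁻¹ = _
    rw [aut_conj, show a⁻¹ (a y) = y from a.symm_apply_apply y]⟩

theorem card_eqLocus_transport (a φ : MulAut G) :
    Nat.card ↥(MonoidHom.eqLocus (a * φ * a⁻¹).toMonoidHom (MonoidHom.id G)) =
      Nat.card ↥(MonoidHom.eqLocus φ.toMonoidHom (MonoidHom.id G)) := by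
  refine Nat.card_congr (Equiv.subtypeEquiv (a.symm.toEquiv) fun y => ?_)
  show a (φ (a⁻¹ y)) = y ↔ φ (a.symm y) = a.symm y
  rw [show a⁻¹ y = a.symm y from rfl]
  exact (MulEquiv.eq_symm_apply a).symm

/-- the criterion does not change along a conjugation -/
theorem core_iff_transport (p : ℕ) (a φ : MulAut G)
    (h : ∀ B : Subgroup (MulAut G), (∀ k, MulAut.conj k ∈ B) →
      (Cfsg.pPrimeCore p ↥(B ⊓ Subgroup.centralizer ({φ} : Set (MulAut G))) ≠ ⊥ ↔
        Nat.Coprime p (Nat.card ↥(MonoidHom.eqLocus φ.toMonoidHom (MonoidHom.id G)))))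
    (A : Subgroup (MulAut G)) (hinn : ∀ k, MulAut.conj k ∈ A) :
    Cfsg.pPrimeCore p ↥(A ⊓ Subgroup.centralizer ({a * φ * a⁻¹} : Set (MulAut G))) ≠ ⊥ ↔
      Nat.Coprime p (Nat.card ↥(MonoidHom.eqLocus (a * φ * a⁻¹).toMonoidHom (MonoidHom.id G))) := by
  rw [core_transport, card_eqLocus_transport]
  exact h _ (inn_transport A a hinn)

end Bal

end H43
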