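import Cfsg.Agent.H43.Bal.GraphMain
import Cfsg.Agent.H43.Bal.Transport
import Cfsg.Agent.H43.Bal.Orth
import Cfsg.Agent.H55.POMinus
import Cfsg.Agent.H44.SimStatements
import Cfsg.Agent.H44.SimInvolStatements
import Mathlib

/-!
# Local balance for `PΩ⁻`
-/

set_option autoImplicit false

namespace H43

namespace Bal

open Matrix H44 H55.PO

section General

variable {G G' : Type*} [Group G] [Group G']

theorem core_iff_autConj (p : ℕ) (e : MulAut G' ≃* MulAut G) (A : Subgroup (MulAut G)) (x' : MulAut G') :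
    Cfsg.pPrimeCore p ↥(A ⊓ Subgroup.centralizer ({e x'} : Set (MulAut G))) ≠ ⊥ ↔
      Cfsg.pPrimeCore p ↥(A.map e.symm.toMonoidHom ⊓ Subgroup.centralizer {x'}) ≠ ⊥ := by
  have hmap : (A ⊓ Subgroup.centralizer ({e x'} : Set (MulAut G))).map e.symm.toMonoidHom =
      A.map e.symm.toMonoidHom ⊓ Subgroup.centralizer {x'} := by
    rw [Subgroup.map_inf _ _ _ (MulEquiv.injective _)]
    congr 1
    ext y
    rw [Subgroup.mem_map, Subgroup.mem_centralizer_singleton_iff]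
    constructor
    · rintro ⟨z, hz, rfl⟩
      rw [Subgroup.mem_centralizer_singleton_iff] at hz
      have := congrArg e.symm hz
      simpa [map_mul] using this
    · intro hy
      refine ⟨e y, Subgroup.mem_centralizer_singleton_iff.2 ?_, e.symm_apply_apply y⟩
      rw [← map_mul, hy, map_mul]
  let E := (Subgroup.equivMapOfInjective (A ⊓ Subgroup.centralizer ({e x'} : Set (MulAut G)))
    e.symm.toMonoidHom (MulEquiv.injective _)).trans (MulEquiv.subgroupCongr hmap)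
  rw [← H10.map_pPrimeCore_equiv E, ne_eq, ne_eq, Subgroup.map_eq_bot_iff_of_injective _ E.injective]

theorem card_eqLocus_autConj (Ψ : G' ≃* G) (x' : MulAut G') :
    Nat.card ↥(MonoidHom.eqLocus ((Ψ.symm.trans x').trans Ψ).toMonoidHom (MonoidHom.id G)) =
      Nat.card ↥(MonoidHom.eqLocus x'.toMonoidHom (MonoidHom.id G')) := by
  refine Nat.card_congr (Equiv.subtypeEquiv Ψ.symm.toEquiv fun y => ?_)
  show Ψ (x' (Ψ.symm y)) = y ↔ x' (Ψ.symm y) = Ψ.symm y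
  exact (MulEquiv.eq_symm_apply Ψ).symm

end General

variable {F : Type*} [Field F] [Finite F]

section Pairs

variable {ι : Type} [Fintype ι] [DecidableEq ι] {Q : QuadraticForm F (ι → F)}

omit [Finite F] in
/-- powers of semisimilarities -/
theorem pair_pow {g : GL ι F} {τ : F ≃+* F} {x : MulAut (Cfsg.POmega F ⇑Q)}
    (hp : Cfsg.IsSemisimilarityPair ⇑Q g τ) (hi : Cfsg.IsInducedBySemilinearPOmega ⇑Q g τ x) (k : ℕ) :
    ∃ g' : GL ι F, Cfsg.IsSemisimilarityPair ⇑Q g' (τ ^ k) ∧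
      Cfsg.IsInducedBySemilinearPOmega ⇑Q g' (τ ^ k) (x ^ k) := by
  induction k with
  | zero => exact ⟨1, ⟨1, fun v => by simp⟩, (isInduced_iff (1 : simG Q)).2 (by rw [pow_zero, map_one])⟩
  | succ k ih =>
    obtain ⟨g', h1, h2⟩ := ih
    rw [pow_succ', pow_succ']
    exact ⟨_, semi_pair_mul hp h1, semi_induced_mul h1 hi h2⟩

end Pairs

variable {m : ℕ} {a b : F}

theorem minus_field_pow (hm : 3 ≤ m) (hQ : (polB (qMinus m F a b)).Nondegenerate) {g : GL _ F} {τ : F ≃+* F}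
    {x : MulAut (Cfsg.POmega F ⇑(qMinus m F a b))} (hp : Cfsg.IsSemisimilarityPair ⇑(qMinus m F a b) g τ)
    (hi : Cfsg.IsInducedBySemilinearPOmega ⇑(qMinus m F a b) g τ x) {k : ℕ} (hx : x ^ k = 1) : τ ^ k = 1 := by
  classical
  obtain ⟨g', h1, h2⟩ := pair_pow hp hi k
  rw [hx] at h2
  let i₀ : Fin m := ⟨0, by omega⟩
  let i₁ : Fin m := ⟨1, by omega⟩
  have hne : i₀ ≠ i₁ := by simp [i₀, i₁]
  have hfixv : ∀ (s : (Fin m ⊕ Fin m) ⊕ Fin 2) (σ : F ≃+* F),
      (fun i => σ ((Pi.single s 1 : _ → F) i)) = Pi.single s 1 := fun s σ => funext fun i => by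
    by_cases hi : i = s <;> simp [hi]
  have hsing : ∀ s : Fin m ⊕ Fin m, (qMinus m F a b) (Pi.single (Sum.inl s) 1) = 0 := fun s => by
    rcases s with i | i <;> simp [coe_qMinus, Cfsg.quadFormMinus, Pi.single_apply]
  exact (semi_faithful hQ (by simp; omega) h1 h2 (u := Pi.single (Sum.inl (Sum.inl i₀)) 1)
    (w := Pi.single (Sum.inl (Sum.inl i₁)) 1) (e := Pi.single (Sum.inl (Sum.inr i₀)) 1) (hsing _) (hsing _)
    (by simp [polB_qMinus, Pi.single_apply]) (by simp [polB_qMinus, Pi.single_apply])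
    (by simp [polB_qMinus, Pi.single_apply, hne, Ne.symm hne]) (by simp) (hfixv _ _) (hfixv _ _)).1

theorem isCyclic_ringAut : IsCyclic (F ≃+* F) := by
  haveI : Fact (ringChar F).Prime := ⟨CharP.char_is_prime F _⟩
  haveI : CharP F (ringChar F) := ringChar.charP F
  letI : Algebra (ZMod (ringChar F)) F := ZMod.algebra F (ringChar F)
  let φ : (F ≃ₐ[ZMod (ringChar F)] F) →* (F ≃+* F) :=
    { toFun := fun e => e.toRingEquiv
      map_one' := rfl
      map_mul' := fun _ _ => rfl }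
  refine isCyclic_of_surjective φ fun ρ => ⟨AlgEquiv.ofRingEquiv (f := ρ) fun t => DFunLike.congr_fun
    (RingHom.ext_zmod ((ρ : F →+* F).comp (algebraMap _ F)) (algebraMap _ F)) t, RingEquiv.ext fun _ => rfl⟩

/-- the automorphisms of order dividing a prime fix the fixed field of one of them -/
theorem fix_of_pow_eq_one {σ τ : F ≃+* F} {p : ℕ} (hp : p.Prime) (hσ : orderOf σ = p) (hτ : τ ^ p = 1)
    {a : F} (ha : σ a = a) : τ a = a := by
  classical
  haveI := isCyclic_ringAut (F := F)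
  haveI : Finite (F ≃+* F) := Finite.of_injective _ DFunLike.coe_injective
  letI := Fintype.ofFinite (F ≃+* F)
  have hsub : (Subgroup.zpowers σ : Set (F ≃+* F)).toFinset ⊆ Finset.univ.filter fun t => t ^ p = 1 := by
    intro t ht
    rw [Set.mem_toFinset] at ht
    obtain ⟨k, rfl⟩ := Subgroup.mem_zpowers_iff.1 ht
    refine Finset.mem_filter.2 ⟨Finset.mem_univ _, ?_⟩
    rw [← zpow_natCast, zpow_comm, zpow_natCast, ← hσ, pow_orderOf_eq_one, _root_.one_zpow]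
  have hcard : (Finset.univ.filter fun t : F ≃+* F => t ^ p = 1).card ≤
      ((Subgroup.zpowers σ : Set (F ≃+* F)).toFinset).card := by
    refine (IsCyclic.card_pow_eq_one_le hp.pos).trans (le_of_eq ?_)
    rw [Set.toFinset_card, ← Nat.card_eq_fintype_card]
    exact ((Nat.card_zpowers σ).trans hσ).symm
  have hmem : τ ∈ Subgroup.zpowers σ := by
    rw [← SetLike.mem_coe, ← Set.mem_toFinset, Finset.eq_of_subset_of_card_le hsub hcard]
    exact Finset.mem_filter.2 ⟨Finset.mem_univ _, hτ⟩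
  exact (show Subgroup.zpowers σ ≤ MulAction.stabilizer (F ≃+* F) a from Subgroup.zpowers_le.2 ha) hmem

/-- coefficients fixed by all automorphisms of a given odd prime order -/
theorem exists_fixed_coeff (hab : ∀ z₁ z₂ : F, z₁ ^ 2 + a * z₁ * z₂ + b * z₂ ^ 2 = 0 → z₁ = 0 ∧ z₂ = 0)
    {p : ℕ} (hp : p.Prime) (hodd : Odd p) :
    ∃ a' b' : F, (∀ z₁ z₂ : F, z₁ ^ 2 + a' * z₁ * z₂ + b' * z₂ ^ 2 = 0 → z₁ = 0 ∧ z₂ = 0) ∧
      ∀ τ : F ≃+* F, τ ^ p = 1 → τ a' = a' ∧ τ b' = b' := by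
  classical
  by_cases h : ∃ σ : F ≃+* F, orderOf σ = p
  swap
  · refine ⟨a, b, hab, fun τ hτ => ?_⟩
    rcases (Nat.dvd_prime hp).1 (orderOf_dvd_of_pow_eq_one hτ) with e | e
    · rw [orderOf_eq_one_iff.1 e]; exact ⟨rfl, rfl⟩
    · exact absurd ⟨τ, e⟩ h
  obtain ⟨σ, hσ⟩ := h
  haveI : Finite (H55.fixF σ) := Finite.of_injective _ Subtype.coe_injective
  obtain ⟨ζ, hζ⟩ : ∃ ζ : H55.fixF σ, ∀ t : H55.fixF σ, t ^ 2 + t + ζ ≠ 0 := by
    have hns : ¬ Function.Surjective fun t : H55.fixF σ => -(t ^ 2 + t) := fun hs => by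
      have hinj := Finite.injective_iff_surjective.2 hs
      exact one_ne_zero (neg_eq_zero.1 (hinj (a₁ := (-1 : H55.fixF σ)) (a₂ := 0) (by ring)))
    simp only [Function.Surjective, not_forall, not_exists] at hns
    obtain ⟨ζ, hζ⟩ := hns
    exact ⟨ζ, fun t ht => hζ t (by linear_combination -ht)⟩
  have habK : ∀ z₁ z₂ : H55.fixF σ, z₁ ^ 2 + 1 * z₁ * z₂ + ζ * z₂ ^ 2 = 0 → z₁ = 0 ∧ z₂ = 0 := by
    intro z₁ z₂ hz
    by_cases h2 : z₂ = 0
    · subst h2; exact ⟨by simpa using hz, rfl⟩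
    · exact absurd (by field_simp; linear_combination hz) (hζ (z₁ / z₂))
  refine ⟨1, (ζ : F), ?_, fun τ hτ => ⟨map_one τ, fix_of_pow_eq_one hp hσ hτ ζ.2⟩⟩
  have := aniso_of_odd (fixHom_subtype σ) (hσ ▸ hodd) habK
  simpa using this

set_option maxHeartbeats 4000000 in
/-- odd primes: the outer automorphisms are field automorphisms up to conjugation -/
theorem minus_normal_form (hm : 3 ≤ m)
    (hab : ∀ z₁ z₂ : F, z₁ ^ 2 + a * z₁ * z₂ + b * z₂ ^ 2 = 0 → z₁ = 0 ∧ z₂ = 0)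
    {p : ℕ} (hp : p.Prime) (hodd : Odd p) (hfix : ∀ τ : F ≃+* F, τ ^ p = 1 → τ a = a ∧ τ b = b)
    {x : MulAut (Cfsg.POmega F ⇑(qMinus m F a b))} (hord : orderOf x = p)
    (hnot : x ∉ (keep (evQ_minus (m := m) (by omega) hab)).map (simAut (qMinus m F a b))) :
    ∃ (σ : F ≃+* F) (ha : σ a = a) (hb : σ b = b) (u : simG (qMinus m F a b)), orderOf σ = p ∧
      x = simAut _ u * fieldPO _ ⟨σ, invAut_qMinus ha hb m⟩ * (simAut _ u)⁻¹ := by
  have h := evQ_minus (m := m) (by omega) hab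
  have hxp : x ^ p = 1 := by rw [← hord]; exact pow_orderOf_eq_one x
  obtain ⟨g, τ, hpair, hind⟩ := exists_pair (AutPO.good_qMinus hm hab) x
  have hτp := minus_field_pow hm h.nondeg hpair hind hxp
  obtain ⟨ha, hb⟩ := hfix τ hτp
  obtain ⟨u, -, hx⟩ := eq_of_induced (τ := ⟨τ, invAut_qMinus ha hb m⟩) hpair hind
  have hτ : τ ≠ RingEquiv.refl F := by
    rintro rfl
    rw [show (⟨RingEquiv.refl F, invAut_qMinus ha hb m⟩ : invAut (qMinus m F a b)) = 1 from Subtype.ext rfl,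
      map_one, mul_one] at hx
    obtain ⟨c, hc⟩ := (simAut_eq_one_iff h.nondeg h.five (u ^ p)).1 (by rw [map_pow, ← hx, hxp])
    have h1 := congrArg (swapH h) hc
    rw [map_pow, swapH_scalar] at h1
    obtain ⟨j, hj⟩ := hodd
    rw [hj, pow_succ, pow_mul, pow_two, mulTwo_mul_self, one_pow, one_mul] at h1
    exact hnot ⟨u, mem_keep.2 h1, hx.symm⟩
  have hord' : orderOf τ = p := orderOf_field h.nondeg h.five hτ hp (by rw [← hx]; exact hord)
  letI := Fintype.ofFinite F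
  obtain ⟨v, -, hv⟩ := coset_minus' (σ := τ) (by rw [hord']; exact hodd) ha hb hab h u (by rw [← hx, hord', hxp])
  exact ⟨τ, ha, hb, v, hord', hx.trans hv⟩

set_option maxHeartbeats 4000000 in
theorem minus_field_case (hm : 3 ≤ m)
    (hab : ∀ z₁ z₂ : F, z₁ ^ 2 + a * z₁ * z₂ + b * z₂ ^ 2 = 0 → z₁ = 0 ∧ z₂ = 0)
    {p : ℕ} [Fact p.Prime] (hodd : Odd p) (hfix : ∀ τ : F ≃+* F, τ ^ p = 1 → τ a = a ∧ τ b = b)
    {x : MulAut (Cfsg.POmega F ⇑(qMinus m F a b))} (hord : orderOf x = p)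
    (hnot : x ∉ (keep (evQ_minus (m := m) (by omega) hab)).map (simAut (qMinus m F a b)))
    (A : Subgroup (MulAut (Cfsg.POmega F ⇑(qMinus m F a b)))) (hinn : ∀ k, MulAut.conj k ∈ A) :
    (∃ (σ : F ≃+* F) (ψ : Cfsg.POmega F ⇑(qMinus m F a b) ≃* Cfsg.POmega F ⇑(qMinus m F a b)),
        σ ≠ RingEquiv.refl F ∧ σ a = a ∧ σ b = b ∧
        Cfsg.IsFieldAutPOmegaOf ⇑(qMinus m F a b) σ ((ψ.symm.trans x).trans ψ)) ∧
      (Cfsg.pPrimeCore p ↥(A ⊓ Subgroup.centralizer {x}) ≠ ⊥ ↔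
        Nat.Coprime p (Nat.card ↥(MonoidHom.eqLocus x.toMonoidHom
          (MonoidHom.id (Cfsg.POmega F ⇑(qMinus m F a b)))))) := by
  classical
  obtain ⟨σ, ha, hb, u, hσ, rfl⟩ := minus_normal_form hm hab (Fact.out : p.Prime) hodd hfix hord hnot
  set w := simAut (qMinus m F a b) u
  set s : invAut (qMinus m F a b) := ⟨σ, invAut_qMinus ha hb m⟩
  refine ⟨⟨σ, w⁻¹, fun e => ?_, ha, hb, ?_⟩, ?_⟩
  · have h1 : orderOf σ = 1 := by rw [e]; exact orderOf_one
    exact (Fact.out : p.Prime).ne_one (hσ ▸ h1)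
  · refine (isFieldAutOf_iff s).2 ?_
    show w⁻¹ * (w * fieldPO _ s * w⁻¹) * w⁻¹⁻¹ = _
    group
  haveI : Finite (H55.fixF σ) := Finite.of_injective _ Subtype.coe_injective
  refine core_iff_transport p w _ (fun B hB => ?_) A hinn
  exact orth_core_ne_bot_iff (R := qMinus m (H55.fixF σ) ⟨a, ha⟩ ⟨b, hb⟩) (j := (H55.fixF σ).subtype)
    (qMinus_jVec _ _ _ m) s (fixHom_subtype σ) (evQ_minus (m := m) (by omega) hab).nondeg (by simp; omega) hσ
    (fun h2 => absurd hodd (by rw [h2]; decide)) (exists_pair (AutPO.good_qMinus hm hab)) B hB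

set_option maxHeartbeats 4000000 in
theorem minus_local_balance_odd (hm : 3 ≤ m)
    (hab : ∀ z₁ z₂ : F, z₁ ^ 2 + a * z₁ * z₂ + b * z₂ ^ 2 = 0 → z₁ = 0 ∧ z₂ = 0)
    {p : ℕ} [Fact p.Prime] (hodd : Odd p)
    {x : MulAut (Cfsg.POmega F ⇑(qMinus m F a b))} (hord : orderOf x = p)
    (hnot : x ∉ (keep (evQ_minus (m := m) (by omega) hab)).map (simAut (qMinus m F a b)))
    (A : Subgroup (MulAut (Cfsg.POmega F ⇑(qMinus m F a b)))) (hinn : ∀ k, MulAut.conj k ∈ A) :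
    (∃ (a' b' : F) (ψ : Cfsg.POmega F ⇑(qMinus m F a b) ≃* Cfsg.POmega F ⇑(qMinus m F a' b')) (σ : F ≃+* F),
        (∀ z₁ z₂ : F, z₁ ^ 2 + a' * z₁ * z₂ + b' * z₂ ^ 2 = 0 → z₁ = 0 ∧ z₂ = 0) ∧
        σ ≠ RingEquiv.refl F ∧ σ a' = a' ∧ σ b' = b' ∧
        Cfsg.IsFieldAutPOmegaOf ⇑(qMinus m F a' b') σ ((ψ.symm.trans x).trans ψ)) ∧
      (Cfsg.pPrimeCore p ↥(A ⊓ Subgroup.centralizer {x}) ≠ ⊥ ↔
        Nat.Coprime p (Nat.card ↥(MonoidHom.eqLocus x.toMonoidHom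
          (MonoidHom.id (Cfsg.POmega F ⇑(qMinus m F a b)))))) := by
  classical
  obtain ⟨a', b', hab', hfix⟩ := exists_fixed_coeff hab (Fact.out : p.Prime) hodd
  obtain ⟨T, hT⟩ := exists_minus_equiv hab hab' m
  have hT1 : ∀ v, qMinus m F a b (T v) = ((1 : Fˣ) : F) * qMinus m F a' b' v := fun v => by
    rw [Units.val_one, one_mul, hT]
  have h' := evQ_minus (m := m) (by omega) hab'
  have h := evQ_minus (m := m) (by omega) hab
  obtain ⟨x', rfl⟩ := (autConj (trIso hT1)).surjective x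
  have hord' : orderOf x' = p := (MulEquiv.orderOf_eq (autConj (trIso hT1)) x').symm.trans hord
  have hnot' : x' ∉ (keep h').map (simAut (qMinus m F a' b')) := fun hmem =>
    hnot (by rw [← map_keep hT1 h' h]; exact ⟨x', hmem, rfl⟩)
  have hinn' : ∀ k, MulAut.conj k ∈ A.map (autConj (trIso hT1)).symm.toMonoidHom := fun k =>
    ⟨_, hinn (trIso hT1 k), by
      apply (autConj (trIso hT1)).injective
      rw [MulEquiv.coe_toMonoidHom, MulEquiv.apply_symm_apply]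
      apply MulEquiv.ext
      intro y
      show _ = trIso hT1 (MulAut.conj k ((trIso hT1).symm y))
      rw [MulAut.conj_apply, MulAut.conj_apply, map_mul, map_mul, map_inv, MulEquiv.apply_symm_apply]⟩
  obtain ⟨⟨σ, ψ, hσ, ha, hb, hψ⟩, hiff⟩ := minus_field_case hm hab' hodd hfix hord' hnot' _ hinn'
  refine ⟨⟨a', b', (trIso hT1).symm.trans ψ, σ, hab', hσ, ha, hb, ?_⟩, ?_⟩
  · convert hψ using 1
    apply MulEquiv.ext
    intro y
    show ψ ((trIso hT1).symm (trIso hT1 (x' ((trIso hT1).symm (trIso hT1 (ψ.symm y)))))) = ψ (x' (ψ.symm y))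
    rw [MulEquiv.symm_apply_apply, MulEquiv.symm_apply_apply]
  · rw [core_iff_autConj p (autConj (trIso hT1)) A x', hiff]
    rw [show Nat.card ↥(MonoidHom.eqLocus (autConj (trIso hT1) x').toMonoidHom
      (MonoidHom.id (Cfsg.POmega F ⇑(qMinus m F a b)))) = Nat.card ↥(MonoidHom.eqLocus x'.toMonoidHom
      (MonoidHom.id (Cfsg.POmega F ⇑(qMinus m F a' b')))) from card_eqLocus_autConj (trIso hT1) x']

set_option maxHeartbeats 4000000 in
/-- **local balance for `PΩ⁻`** -/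
theorem S2733_core (hm : 3 ≤ m) (hab : ∀ z₁ z₂ : F, z₁ ^ 2 + a * z₁ * z₂ + b * z₂ ^ 2 = 0 → z₁ = 0 ∧ z₂ = 0)
    (Φ : ((Fin m ⊕ Fin m) ⊕ Fin 2 → F) → F) (hΦ : ⇑(qMinus m F a b) = Φ)
    {r : ℕ} [Fact r.Prime] [CharP F r] (A : Subgroup (MulAut (Cfsg.POmega F Φ)))
    (hinn : ∀ k, MulAut.conj k ∈ A) {p : ℕ} [Fact p.Prime] (hpr : p ≠ r) (x : MulAut (Cfsg.POmega F Φ))
    (hord : orderOf x = p)
    (hnot : ¬ ∃ g : GL ((Fin m ⊕ Fin m) ⊕ Fin 2) F, g ∈ Cfsg.Geo.quadSimilarityGroup (F := F) Φ ∧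
      Cfsg.PreservesSingularClassesMinus m a b (g : Matrix ((Fin m ⊕ Fin m) ⊕ Fin 2) ((Fin m ⊕ Fin m) ⊕ Fin 2) F) ∧
      Cfsg.IsInducedBySemilinearPOmega Φ g (RingEquiv.refl F) x) :
    Cfsg.pPrimeCore p ↥(A ⊓ Subgroup.centralizer {x}) ≠ ⊥ ↔
      ((∃ (a' b' : F) (ψ : Cfsg.POmega F Φ ≃* Cfsg.POmega F ⇑(qMinus m F a' b')) (σ : F ≃+* F),
        (∀ z₁ z₂ : F, z₁ ^ 2 + a' * z₁ * z₂ + b' * z₂ ^ 2 = 0 → z₁ = 0 ∧ z₂ = 0) ∧
        σ ≠ RingEquiv.refl F ∧ σ a' = a' ∧ σ b' = b' ∧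
        Cfsg.IsFieldAutPOmegaOf ⇑(qMinus m F a' b') σ ((ψ.symm.trans x).trans ψ)) ∧
      Nat.Coprime p (Nat.card ↥(MonoidHom.eqLocus x.toMonoidHom (MonoidHom.id (Cfsg.POmega F Φ))))) := by
  subst hΦ
  classical
  letI := Fintype.ofFinite F
  have h := evQ_minus (m := m) (by omega) hab
  have hnot' : x ∉ (keep h).map (simAut (qMinus m F a b)) := by
    rintro ⟨g, hg, rfl⟩
    exact hnot ⟨g.1, g.2, (preserves_minus_iff h hab g).2 hg, (isInduced_iff g).2 rfl⟩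
  rcases (Fact.out : p.Prime).eq_two_or_odd' with hp | hp
  swap
  · obtain ⟨hclass, hiff⟩ := minus_local_balance_odd hm hab hp hord hnot' A hinn
    rw [hiff, and_iff_right hclass]
  subst hp
  have h2 : (2 : F) ≠ 0 := fun e => hpr
    (CharP.eq F (CharTwo.of_one_ne_zero_of_two_eq_zero one_ne_zero e) inferInstance)
  have hcard : Odd (Fintype.card F) := by
    obtain ⟨e, hr, hc⟩ := FiniteField.card F r
    rw [hc]
    exact (hr.odd_of_ne_two (Ne.symm hpr)).pow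
  constructor
  swap
  · rintro ⟨⟨a', b', ψ, σ, hab', hσ, ha, hb, hψ⟩, -⟩
    exact absurd (minus_reduce hm hab ψ hab' hσ ha hb hψ Nat.prime_two hord).2.1 (by decide)
  intro hcore
  exfalso
  apply hcore
  obtain ⟨hE, -, hc⟩ := H44.minus_data hcard hm hab
  have hxx : x * x = 1 := by have := pow_orderOf_eq_one x; rwa [hord, pow_two] at this
  let i₀ : Fin m := ⟨0, by omega⟩
  let i₁ : Fin m := ⟨1, by omega⟩
  have hne : i₀ ≠ i₁ := by simp [i₀, i₁]
  have hfixv : ∀ (s : (Fin m ⊕ Fin m) ⊕ Fin 2) (σ : F ≃+* F),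
      (fun i => σ ((Pi.single s 1 : _ → F) i)) = Pi.single s 1 := fun s σ => funext fun i => by
    by_cases hi : i = s <;> simp [hi]
  have hsing : ∀ s : Fin m ⊕ Fin m, (qMinus m F a b) (Pi.single (Sum.inl s) 1) = 0 := fun s => by
    rcases s with i | i <;> simp [coe_qMinus, Cfsg.quadFormMinus, Pi.single_apply]
  obtain ⟨g, hg⟩ := exists_invol_sim hE (fun hsq e => by
      have := (hc.1 e).2
      have := FiniteField.isSquare_neg_one_iff.1 hsq
      omega)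
    (u := Pi.single (Sum.inl (Sum.inl i₀)) 1) (w := Pi.single (Sum.inl (Sum.inl i₁)) 1)
    (e := Pi.single (Sum.inl (Sum.inr i₀)) 1) (hsing _) (hsing _)
    (by simp [polB_qMinus, Pi.single_apply]) (by simp [polB_qMinus, Pi.single_apply])
    (by simp [polB_qMinus, Pi.single_apply, hne, Ne.symm hne]) (by simp) (fun τ => hfixv _ τ) (fun τ => hfixv _ τ)
    (β := x) (by rw [AutPO.gamma_eq_top (AutPO.good_qMinus hm hab)]; trivial) hxx
  have hη : etaHom hE g = -1 := (etaHom_cases hE g).resolve_left fun e => hnot'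
    ⟨g, mem_keep.2 ((swapFun_odd h h2 g).2 e), hg⟩
  rw [← hg] at hxx ⊢
  exact graph_core_eq_bot hE (by omega) (exists_pair (AutPO.good_qMinus hm hab)) g hη hxx A hinn

end Bal

end H43
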