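import Cfsg.Agent.H43.Bal.Orth
import Cfsg.Agent.H43.Bal.Transport
import Cfsg.Agent.H55.POTwist
import Cfsg.Agent.H55.POBase
import Cfsg.Agent.H43.AutPO.Gamma
import Mathlib

/-!
# Local balance for `Ω_{2m+1}(q)`
-/

set_option autoImplicit false

namespace H43

namespace Bal

open Matrix H44 H55.PO

variable {F : Type*} [Field F] [Finite F] {m : ℕ}

/-- an automorphism of prime order outside the similarities is conjugate to a field automorphism -/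
theorem odd_normal_form (h2 : (2 : F) ≠ 0) (hm : 3 ≤ m) {x : MulAut (Cfsg.POmega F ⇑(qOdd m F))}
    {p : ℕ} (hp : p.Prime) (hord : orderOf x = p)
    (hnot : ¬ Cfsg.IsSimilarityInducedAutPOmega (⇑(qOdd m F)) x) :
    ∃ (σ : F ≃+* F) (u : simG (qOdd m F)), orderOf σ = p ∧
      x = simAut _ u * fieldPO _ ⟨σ, invAut_qOdd σ m⟩ * (simAut _ u)⁻¹ := by
  have hQ := qOdd_nondeg h2 m
  have h5 : 5 ≤ Fintype.card (Unit ⊕ (Fin m ⊕ Fin m)) := by simp; omega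
  obtain ⟨g, τ, hpair, hind⟩ := exists_pair (AutPO.good_qOdd hm h2) x
  obtain ⟨u, hu, hx⟩ := eq_of_induced (τ := ⟨τ, invAut_qOdd τ m⟩) hpair hind
  have hτ : τ ≠ RingEquiv.refl F := by
    rintro rfl
    exact hnot ⟨g, hu ▸ u.2, hind⟩
  have hord' : orderOf τ = p :=
    orderOf_field hQ h5 (σ := ⟨τ, invAut_qOdd τ m⟩) hτ hp (by rw [← hx]; exact hord)
  obtain ⟨v, hv⟩ := coset_odd (fixHom_subtype τ) h2 (by omega : 2 ≤ m) u
    (by rw [← hx, hord', ← hord]; exact pow_orderOf_eq_one x)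
  exact ⟨τ, v, hord', hx.trans hv⟩

/-- **local balance for `Ω_{2m+1}(q)`** -/
theorem odd_local_balance (h2 : (2 : F) ≠ 0) (hm : 3 ≤ m)
    (A : Subgroup (MulAut (Cfsg.POmega F ⇑(qOdd m F)))) (hinn : ∀ k, MulAut.conj k ∈ A)
    {p : ℕ} [Fact p.Prime] (x : MulAut (Cfsg.POmega F ⇑(qOdd m F))) (hord : orderOf x = p)
    (hnot : ¬ Cfsg.IsSimilarityInducedAutPOmega (⇑(qOdd m F)) x) :
    Cfsg.pPrimeCore p ↥(A ⊓ Subgroup.centralizer {x}) ≠ ⊥ ↔
      (Cfsg.IsFieldAutClassPOmega (⇑(qOdd m F)) x ∧ Nat.Coprime p (Nat.card ↥(MonoidHom.eqLocus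
        x.toMonoidHom (MonoidHom.id (Cfsg.POmega F ⇑(qOdd m F)))))) := by
  classical
  obtain ⟨σ, u, hσ, rfl⟩ := odd_normal_form h2 hm (Fact.out : p.Prime) hord hnot
  set a := simAut (qOdd m F) u
  set s : invAut (qOdd m F) := ⟨σ, invAut_qOdd σ m⟩ with hs
  have hclass : Cfsg.IsFieldAutClassPOmega (⇑(qOdd m F)) (a * fieldPO _ s * a⁻¹) := by
    refine ⟨a⁻¹, fieldPO _ s, σ, fun h => ?_, (isFieldAutOf_iff s).2 rfl, by group⟩
    have h1 : orderOf σ = 1 := by rw [h]; exact orderOf_one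
    exact (Fact.out : p.Prime).ne_one (hσ ▸ h1)
  rw [and_iff_right hclass]
  haveI : Finite (H55.fixF σ) := Finite.of_injective _ Subtype.coe_injective
  refine core_iff_transport p a _ (fun B hB => ?_) A hinn
  exact orth_core_ne_bot_iff (R := qOdd m (H55.fixF σ)) (j := (H55.fixF σ).subtype)
    (qOdd_jVec _ m) s (fixHom_subtype σ) (qOdd_nondeg h2 m) (by simp; omega) hσ (fun _ => h2)
    (exists_pair (AutPO.good_qOdd hm h2)) B hB

theorem S2731_core (h2 : (2 : F) ≠ 0) (hm : 3 ≤ m) (Φ : (Unit ⊕ (Fin m ⊕ Fin m) → F) → F)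
    (hΦ : ⇑(qOdd m F) = Φ) (A : Subgroup (MulAut (Cfsg.POmega F Φ))) (hinn : ∀ k, MulAut.conj k ∈ A)
    {p : ℕ} [Fact p.Prime] (x : MulAut (Cfsg.POmega F Φ)) (hord : orderOf x = p)
    (hnot : ¬ Cfsg.IsSimilarityInducedAutPOmega Φ x) :
    Cfsg.pPrimeCore p ↥(A ⊓ Subgroup.centralizer {x}) ≠ ⊥ ↔
      (Cfsg.IsFieldAutClassPOmega Φ x ∧ Nat.Coprime p (Nat.card ↥(MonoidHom.eqLocus
        x.toMonoidHom (MonoidHom.id (Cfsg.POmega F Φ))))) := by
  subst hΦ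
  exact odd_local_balance h2 hm A hinn x hord hnot

end Bal

end H43
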