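import Cfsg.Agent.H44.SimInv
import Cfsg.Agent.H44.SimSemi
import Cfsg.Agent.H43.Bal.Orth
import Cfsg.Agent.H43.Bal.CompGen
import Mathlib

/-!
# Automorphisms of `PΩ(Q)` described by their action on reflections
-/

set_option autoImplicit false

namespace H43

namespace Bal

open Matrix H44

variable {F : Type*} [Field F] {ι : Type} [Fintype ι] [DecidableEq ι] {Q : QuadraticForm F (ι → F)}

/-- the action of the orthogonal group on `PΩ(Q)` -/
noncomputable def oAut (Q : QuadraticForm F (ι → F)) : orthGroup Q →* MulAut (Cfsg.POmega F ⇑Q) :=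
  (simAut Q).comp (orthSim Q)

theorem oAut_apply (h : orthGroup Q) : oAut Q h = simAut Q (orthSim Q h) := rfl

/-- elements of the commutator subgroup act as inner automorphisms -/
theorem oAut_comm_inner {h : orthGroup Q} (hh : h ∈ commutator (orthGroup Q)) :
    ∃ k, oAut Q h = MulAut.conj k := by
  have hm : (toOrth Q).symm h ∈ Cfsg.Omega F ⇑Q := by rw [mem_Omega_iff, MulEquiv.apply_symm_apply]; exact hh
  exact ⟨QuotientGroup.mk (⟨_, hm⟩ : Cfsg.Omega F ⇑Q),
    simAut_omegaSim (⟨_, hm⟩ : Cfsg.Omega F ⇑Q)⟩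

theorem exists_oAut_conj (k : Cfsg.POmega F ⇑Q) : ∃ h, oAut Q h = MulAut.conj k := by
  obtain ⟨s, rfl⟩ := QuotientGroup.mk'_surjective _ k
  refine ⟨toOrth Q s.1, ?_⟩
  rw [oAut_apply, show orthSim Q (toOrth Q s.1) = omegaSim Q s from simG_ext fun v => by
    rw [orthSim_mulVec, toOrth_apply]; rfl, simAut_omegaSim]
  rfl

theorem refl_rotation_ne_neg (hQ : (polB Q).Nondegenerate) (h2 : (2 : F) ≠ 0)
    (h5 : 5 ≤ Fintype.card ι) (a b c d : ι → F) :
    refl Q a * refl Q b * (refl Q c * refl Q d) ≠ negOrth Q := by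
  intro h
  obtain ⟨v, hv, hv0⟩ := Submodule.exists_mem_ne_zero_of_ne_bot
    (p := (polB Q).orthogonal (Submodule.span F (Set.range ![a, b, c, d]))) (fun e => by
      have h1 := finrank_orth_add hQ (Submodule.span F (Set.range ![a, b, c, d]))
      have h3 : Module.finrank F (Submodule.span F (Set.range ![a, b, c, d])) ≤ 4 :=
        (finrank_range_le_card _).trans (by simp)
      rw [e, finrank_bot, Module.finrank_fintype_fun_eq_card] at h1
      omega)
  have hp : ∀ i, polB Q v (![a, b, c, d] i) = 0 := fun i => by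
    rw [polB_comm]; exact hv _ (Submodule.subset_span ⟨i, rfl⟩)
  have h1 := congrArg (fun g : orthGroup Q => g.1 v) h
  simp only [orth_mul_apply, negOrth_apply] at h1
  have ha' : polB Q v a = 0 := hp 0
  have hb' : polB Q v b = 0 := hp 1
  have hc' : polB Q v c = 0 := hp 2
  have hd' : polB Q v d = 0 := hp 3
  rw [refl_fix hd', refl_fix hc', refl_fix hb', refl_fix ha'] at h1
  exact hv0 ((smul_eq_zero.1 (show (2 : F) • v = 0 by rw [two_smul]; exact eq_neg_iff_add_eq_zero.1 h1)).resolve_left h2)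

variable [Finite F]

theorem oAut_ker (hQ : (polB Q).Nondegenerate) (h5 : 5 ≤ Fintype.card ι) (h : orthGroup Q)
    (hh : oAut Q h = 1) : h = 1 ∨ h = negOrth Q := by
  obtain ⟨c, hc⟩ := (simAut_eq_one_iff hQ h5 _).1 hh
  have hv : ∀ v, h.1 v = (c : F) • v := fun v => by rw [← orthSim_mulVec, hc, scalarHom_mulVec]
  obtain ⟨v, hv0⟩ := exists_qmap_eq hQ (by simp; omega) 1 one_ne_zero
  have h1 := orth_qmap h v
  rw [hv, qmap_smul, hv0, mul_one] at h1
  rcases mul_self_eq_one_iff.1 h1 with e | e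
  · exact Or.inl (orth_ext fun x => by rw [hv, e, one_smul, orth_one_apply])
  · exact Or.inr (orth_ext fun x => by rw [hv, e, neg_one_smul, negOrth_apply])

theorem oAut_pair_eq (hQ : (polB Q).Nondegenerate) (h2 : (2 : F) ≠ 0) (h5 : 5 ≤ Fintype.card ι)
    {a b c d : ι → F} (h : oAut Q (refl Q a * refl Q b) = oAut Q (refl Q c * refl Q d)) :
    refl Q a * refl Q b = refl Q c * refl Q d := by
  rcases oAut_ker hQ h5 ((refl Q c * refl Q d)⁻¹ * (refl Q a * refl Q b))
    (by rw [map_mul, map_inv, h, inv_mul_cancel]) with e | e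
  · exact (inv_mul_eq_one.1 e).symm
  · rw [_root_.mul_inv_rev, refl_inv, refl_inv] at e
    exact absurd e (refl_rotation_ne_neg hQ h2 h5 _ _ _ _)

theorem oAut_refl_line (hQ : (polB Q).Nondegenerate) (h2 : (2 : F) ≠ 0) (h5 : 5 ≤ Fintype.card ι)
    {a b : ι → F} (ha : Q a ≠ 0) (h : oAut Q (refl Q a) = oAut Q (refl Q b)) : a ∈ F ∙ b := by
  refine mem_line_of_refl_eq h2 ha ?_
  rcases oAut_ker hQ h5 ((refl Q b)⁻¹ * refl Q a) (by rw [map_mul, map_inv, h, inv_mul_cancel]) with e | e
  · exact (inv_mul_eq_one.1 e).symm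
  · exfalso
    obtain ⟨v, hv, hv0⟩ := Submodule.exists_mem_ne_zero_of_ne_bot
      (p := (polB Q).orthogonal (Submodule.span F {a, b})) (fun e' => by
        have := finrank_orth_pair hQ a b
        rw [e', finrank_bot, Module.finrank_fintype_fun_eq_card] at this
        omega)
    obtain ⟨h1, h3⟩ := mem_orth_pair.1 hv
    have h4 := congrArg (fun g : orthGroup Q => g.1 v) e
    simp only [refl_inv, orth_mul_apply, negOrth_apply] at h4
    rw [refl_fix (show polB Q v a = 0 by rw [polB_comm]; exact h1),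
      refl_fix (show polB Q v b = 0 by rw [polB_comm]; exact h3)] at h4
    exact hv0 ((smul_eq_zero.1 (show (2 : F) • v = 0 by rw [two_smul]; exact eq_neg_iff_add_eq_zero.1 h4)).resolve_left h2)

omit [Finite F]

/-- a semilinear map describing an automorphism of `PΩ(Q)` -/
structure Rep (Q : QuadraticForm F (ι → F)) (y : MulAut (Cfsg.POmega F ⇑Q)) where
  map : (ι → F) →+ (ι → F)
  field : F ≃+* F
  inj : Function.Injective map
  smul : ∀ (a : F) (v : ι → F), map (a • v) = field a • map v
  mult : Fˣ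
  qmap : ∀ v, Q (map v) = (mult : F) * field (Q v)
  conj : ∀ u, Q u ≠ 0 → y * oAut Q (refl Q u) * y⁻¹ = oAut Q (refl Q (map u))

namespace Rep

variable {y z : MulAut (Cfsg.POmega F ⇑Q)} (S : Rep Q y)

theorem polB_map (u v : ι → F) :
    polB Q (S.map u) (S.map v) = (S.mult : F) * S.field (polB Q u v) := by
  simp only [polB_apply, QuadraticMap.polar, ← map_add, S.qmap, map_sub]
  rw [mul_sub, mul_sub]

theorem qmap_ne {u : ι → F} (hu : Q u ≠ 0) : Q (S.map u) ≠ 0 := by
  rw [S.qmap]; exact mul_ne_zero S.mult.ne_zero ((map_ne_zero S.field.toRingHom).2 hu)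

theorem surj [Finite F] : Function.Surjective S.map := Finite.injective_iff_surjective.1 S.inj

/-- products -/
noncomputable def comp (T : Rep Q z) : Rep Q (y * z) where
  map := S.map.comp T.map
  field := T.field.trans S.field
  inj := S.inj.comp T.inj
  smul a v := by simp [T.smul, S.smul]
  mult := S.mult * Units.map S.field.toRingHom.toMonoidHom T.mult
  qmap v := by
    show Q (S.map (T.map v)) = _
    rw [S.qmap, T.qmap, map_mul, Units.val_mul, Units.coe_map, mul_assoc]
    rfl
  conj u hu := by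
    show _ = oAut Q (refl Q (S.map (T.map u)))
    rw [← S.conj _ (T.qmap_ne hu), ← T.conj u hu]
    group

end Rep

/-- similarities -/
noncomputable def simRep [Finite F] {n : ℕ} (h : EvenQ Q n) (g : simG Q) : Rep Q (simAut Q g) where
  map := (Matrix.toLin' (g.1 : Matrix ι ι F)).toAddMonoidHom
  field := RingEquiv.refl F
  inj := fun a b e => Matrix.mulVec_injective_iff_isUnit.2 g.1.isUnit
    (by simpa [Matrix.toLin'_apply] using e)
  smul a v := by simp [Matrix.toLin'_apply, mulVec_smul]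
  mult := muHom h g
  qmap v := by
    show Q (Matrix.toLin' (g.1 : Matrix ι ι F) v) = _
    rw [Matrix.toLin'_apply, muHom_spec h]
    rfl
  conj u _ := by
    show _ = oAut Q (refl Q (Matrix.toLin' (g.1 : Matrix ι ι F) u))
    rw [Matrix.toLin'_apply, oAut_apply, oAut_apply, mul_inv_eq_iff_eq_mul, ← map_mul, ← map_mul,
      sim_conj_refl h]

variable [Finite F]

/-- two descriptions of one automorphism differ by a scalar -/
theorem Rep.eq_scalar (hQ : (polB Q).Nondegenerate) (h2 : (2 : F) ≠ 0) (h5 : 5 ≤ Fintype.card ι)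
    {y : MulAut (Cfsg.POmega F ⇑Q)} (S T : Rep Q y) : ∃ l : F, ∀ v, T.map v = l • S.map v := by
  let e : (ι → F) ≃+ (ι → F) := AddEquiv.ofBijective S.map ⟨S.inj, S.surj⟩
  have he : ∀ v, S.map (e.symm v) = v := fun v => e.apply_symm_apply v
  obtain ⟨l, hl⟩ := exists_scalar_of_lines hQ h2 (by simp; omega) (e.symm.toAddMonoidHom.comp T.map)
    fun v hv => by
      obtain ⟨a, ha⟩ := Submodule.mem_span_singleton.1
        (oAut_refl_line hQ h2 h5 (T.qmap_ne hv) ((T.conj v hv).symm.trans (S.conj v hv)))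
      refine ⟨S.field.symm a, S.inj ?_⟩
      show S.map (e.symm (T.map v)) = _
      rw [he, S.smul, RingEquiv.apply_symm_apply, ha]
  refine ⟨S.field l, fun v => ?_⟩
  rw [← S.smul, ← hl v]
  exact (he _).symm

/-- an automorphism acting on reflections as a scalar is trivial -/
theorem Rep.eq_one (hQ : (polB Q).Nondegenerate) (h2 : (2 : F) ≠ 0) (h5 : 5 ≤ Fintype.card ι)
    {y : MulAut (Cfsg.POmega F ⇑Q)} (S : Rep Q y) {l : F} (hl : ∀ v, S.map v = l • v) : y = 1 := by
  have hl0 : ∀ u, Q u ≠ 0 → l ≠ 0 := fun u hu e => S.qmap_ne hu (by rw [hl, e, zero_smul, map_zero])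
  have hall : ∀ h, y * oAut Q h * y⁻¹ = oAut Q h := by
    intro h
    have hmem : h ∈ Subgroup.closure (reflSet Q) :=
      closure_reflSet hQ (reflGenerates_of_two_ne_zero h2) ▸ Subgroup.mem_top h
    induction hmem using Subgroup.closure_induction with
    | mem r hr =>
      obtain ⟨u, hu, rfl⟩ := hr
      rw [S.conj u hu, hl, refl_smul _ (hl0 u hu)]
    | one => simp
    | mul a b _ _ ha hb => rw [map_mul]; conv_rhs => rw [← ha, ← hb]
                           group
    | inv a _ ha => rw [map_inv]; conv_rhs => rw [← ha]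
                    group
  apply MulEquiv.ext
  intro k
  obtain ⟨h, hh⟩ := exists_oAut_conj k
  have h1 := hall h
  rw [hh, aut_conj] at h1
  exact conj_inj hQ h5 h1

/-- every automorphism induced by a semisimilarity has a description -/
theorem exists_rep (hQ : (polB Q).Nondegenerate) {β : MulAut (Cfsg.POmega F ⇑Q)} {g : GL ι F}
    {τ : F ≃+* F} (hp : Cfsg.IsSemisimilarityPair ⇑Q g τ)
    (hi : Cfsg.IsInducedBySemilinearPOmega ⇑Q g τ β) : Nonempty (Rep Q β) := by
  obtain ⟨E, hE⟩ := exists_semiOmega hp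
  obtain ⟨c, hc⟩ := hp
  let S : (ι → F) →+ (ι → F) :=
    { toFun := semiMap g τ
      map_zero' := by
        show (g : Matrix ι ι F) *ᵥ _ = 0
        rw [show H55.PO.vecMap τ (0 : ι → F) = 0 from funext fun i => by simp [H55.PO.vecMap], mulVec_zero]
      map_add' := semiMap_add g τ }
  have hS : ∀ v, S v = semiMap g τ v := fun v => rfl
  have hinj : Function.Injective S := fun a b e => by
    have h1 : H55.PO.vecMap τ a = H55.PO.vecMap τ b := Matrix.mulVec_injective_iff_isUnit.2 g.isUnit e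
    funext i
    exact τ.injective (congrFun h1 i)
  have hsurj : Function.Surjective S := Finite.injective_iff_surjective.1 hinj
  have hq : ∀ v, Q (S v) = (c : F) * τ (Q v) := fun v => hc v
  have hB : ∀ u v, polB Q (S u) (S v) = (c : F) * τ (polB Q u v) := fun u v => by
    simp only [polB_apply, QuadraticMap.polar, ← map_add, hq, map_sub]
    rw [mul_sub, mul_sub]
  refine ⟨⟨S, τ, hinj, semiMap_smul g τ, c, hq, fun u hu => ?_⟩⟩
  have hrel : ∀ v, S ((refl Q u).1 v) = (refl Q (S u)).1 (S v) := by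
    intro v
    rw [refl_apply, refl_apply, map_sub, hS (_ • u), semiMap_smul, ← hS, hB, hq, map_mul, map_inv₀]
    congr 2
    field_simp [c.ne_zero]
  have hEs : ∀ (s : Cfsg.Omega F ⇑Q) v, S ((s.1.1.1) *ᵥ v) = (E s).1.1.1 *ᵥ S v := by
    intro s v
    show semiMap g τ _ = _ *ᵥ semiMap g τ v
    unfold semiMap
    conv_rhs => rw [hE s, mulVec_mulVec, Matrix.mul_assoc, Units.inv_mul, Matrix.mul_one, ← mulVec_mulVec]
    rw [← H55.PO.vecMap_mulVec]
  rw [mul_inv_eq_iff_eq_mul]
  apply MulEquiv.ext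
  intro k
  induction k using QuotientGroup.induction_on with
  | _ s =>
    show β (oAut Q (refl Q u) (QuotientGroup.mk s)) = oAut Q (refl Q (S u)) (β (QuotientGroup.mk s))
    rw [hi s (E s) (hE s), oAut_apply, oAut_apply, simAut_mk, simAut_mk,
      hi _ (E (conjOmega Q (orthSim Q (refl Q u)) s)) (hE _)]
    congr 1
    apply Subtype.ext
    apply Subtype.ext
    apply Units.ext
    refine Matrix.ext_iff_mulVec.2 fun w => ?_
    obtain ⟨v, rfl⟩ := hsurj w
    rw [← hEs, coe_conjOmega, coe_conjOmega, ← Subgroup.coe_inv, ← Subgroup.coe_inv, ← map_inv, ← map_inv]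
    simp only [← Subgroup.coe_mul, Units.val_mul, ← mulVec_mulVec, orthSim_mulVec, refl_inv]
    rw [hrel, hEs, hrel]

end Bal

end H43
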